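import Mathlib

/-!
# Semilinear maps of finite order over a finite field have eigenvectors

Dedekind independence with vector coefficients, the surjectivity of the cyclic norm and Hilbert 90.
-/

set_option autoImplicit false

namespace Cfsg.Agent.Grp.SpreadField

variable {K : Type*} [Field K] {V : Type*} [AddCommGroup V] [Module K V]

/-- Dedekind independence with vector coefficients. -/
theorem vec_indep {α : Type*} (s : Finset α) (f : α → K →* K)
    (hf : ∀ i ∈ s, ∀ j ∈ s, f i = f j → i = j) (z : α → V)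
    (h : ∀ k, ∑ i ∈ s, f i k • z i = 0) : ∀ i ∈ s, z i = 0 := by
  classical
  induction s using Finset.induction_on generalizing z with
  | empty => intro i hi; simp at hi
  | insert a s ha ih =>
    have hrest : ∀ i ∈ s, z i = 0 := by
      intro i hi
      have hne : f i ≠ f a := fun e =>
        ha (hf i (Finset.mem_insert_of_mem hi) a (Finset.mem_insert_self a s) e ▸ hi)
      obtain ⟨k₀, hk₀⟩ : ∃ k₀, f i k₀ ≠ f a k₀ := by
        by_contra! hc
        exact hne (MonoidHom.ext hc)
      have h1 := ih (fun i hi j hj => hf i (Finset.mem_insert_of_mem hi) j (Finset.mem_insert_of_mem hj))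
        (fun j => (f j k₀ - f a k₀) • z j) (fun k => by
          have e1 := h (k * k₀)
          have e2 := h k
          rw [Finset.sum_insert ha] at e1 e2
          have e3 : ∑ j ∈ s, f j k • (f j k₀ - f a k₀) • z j =
              (∑ j ∈ s, f j (k * k₀) • z j) - f a k₀ • ∑ j ∈ s, f j k • z j := by
            rw [Finset.smul_sum, ← Finset.sum_sub_distrib]
            refine Finset.sum_congr rfl fun j _ => ?_
            rw [smul_smul, smul_smul, ← sub_smul, map_mul]
            congr 1
            ring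
          rw [e3, eq_neg_of_add_eq_zero_right e1, eq_neg_of_add_eq_zero_right e2, smul_neg,
            sub_neg_eq_add, smul_smul, map_mul, mul_comm (f a k₀), neg_add_cancel]) i hi
      exact (smul_eq_zero.mp h1).resolve_left (sub_ne_zero.mpr hk₀)
    intro i hi
    rcases Finset.mem_insert.mp hi with rfl | hi
    · have h1 := h 1
      rw [Finset.sum_insert ha, map_one, one_smul] at h1
      rwa [Finset.sum_eq_zero (fun j hj => by rw [hrest j hj, smul_zero]), add_zero] at h1
    · exact hrest i hi

/-- The powers of `τ` below its order are different. -/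
theorem pow_apply_inj (τ : RingAut K) :
    ∀ i ∈ Finset.range (orderOf τ), ∀ j ∈ Finset.range (orderOf τ),
      ((τ ^ i : RingAut K) : K →+* K).toMonoidHom = ((τ ^ j : RingAut K) : K →+* K).toMonoidHom →
        i = j := by
  intro i hi j hj h
  have h1 : τ ^ i = τ ^ j := RingEquiv.ext fun k => congrArg (fun g : K →* K => g k) h
  exact pow_injOn_Iio_orderOf (Finset.mem_range.mp hi) (Finset.mem_range.mp hj) h1

/-- A vector fixed by the `n`-th power of a semilinear map has, for some scalar, a nonzero orbit sum. -/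
theorem exists_fixed (τ : RingAut K) (hn : 0 < orderOf τ) (T : V →+ V)
    (hT : ∀ (k : K) v, T (k • v) = τ k • T v) {v₀ : V} (hv₀ : v₀ ≠ 0)
    (h : T^[orderOf τ] v₀ = v₀) : ∃ v, v ≠ 0 ∧ T v = v := by
  classical
  have hit : ∀ (i : ℕ) (k : K) v, T^[i] (k • v) = (τ ^ i : RingAut K) k • T^[i] v := by
    intro i
    induction i with
    | zero => exact fun k v => rfl
    | succ i ih =>
      intro k v
      rw [Function.iterate_succ_apply', Function.iterate_succ_apply', ih, hT, pow_succ']
      rfl
  obtain ⟨k, hk⟩ : ∃ k : K, ∑ i ∈ Finset.range (orderOf τ), T^[i] (k • v₀) ≠ 0 := by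
    by_contra! hc
    refine hv₀ ?_
    exact vec_indep (Finset.range (orderOf τ))
      (fun i => ((τ ^ i : RingAut K) : K →+* K).toMonoidHom) (pow_apply_inj τ) (fun i => T^[i] v₀)
      (fun k => by
        rw [← hc k]
        exact Finset.sum_congr rfl fun i _ => (hit i k v₀).symm) 0 (Finset.mem_range.mpr hn)
  refine ⟨_, hk, ?_⟩
  rw [map_sum]
  have e1 : T^[orderOf τ] (k • v₀) = T^[0] (k • v₀) := by
    rw [hit, pow_orderOf_eq_one, h]
    rfl
  obtain ⟨n, hn'⟩ : ∃ n, orderOf τ = n + 1 := ⟨orderOf τ - 1, by omega⟩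
  rw [hn'] at e1 ⊢
  simp only [← Function.iterate_succ_apply' T]
  rw [Finset.sum_range_succ, Finset.sum_range_succ' (fun i => T^[i] (k • v₀)), e1]

variable [Finite K]

theorem orderOf_ringAut_pos (τ : RingAut K) : 0 < orderOf τ := by
  haveI : Finite (RingAut K) := Finite.of_injective (fun g : RingAut K => (g : K → K)) DFunLike.coe_injective
  exact orderOf_pos τ

/-- The product over the cyclic group generated by `τ`. -/
noncomputable def cnorm (τ : RingAut K) : Kˣ →* Kˣ where
  toFun u := ∏ i ∈ Finset.range (orderOf τ), Units.map ((τ ^ i : RingAut K) : K →+* K).toMonoidHom u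
  map_one' := by simp
  map_mul' u v := by simp [Finset.prod_mul_distrib]

theorem cnorm_coe (τ : RingAut K) (u : Kˣ) :
    (cnorm τ u : K) = ∏ i ∈ Finset.range (orderOf τ), (τ ^ i : RingAut K) (u : K) := by
  simp [cnorm, Units.coe_prod]

theorem prod_shift (τ : RingAut K) (u : K) :
    τ (∏ i ∈ Finset.range (orderOf τ), (τ ^ i : RingAut K) u) =
      ∏ i ∈ Finset.range (orderOf τ), (τ ^ i : RingAut K) u := by
  rw [map_prod]
  obtain ⟨n, hn⟩ : ∃ n, orderOf τ = n + 1 := ⟨orderOf τ - 1, by have := orderOf_ringAut_pos τ; omega⟩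
  have e1 : ∀ i : ℕ, τ ((τ ^ i : RingAut K) u) = (τ ^ (i + 1) : RingAut K) u := fun i => by
    rw [pow_succ']; rfl
  simp only [e1]
  rw [hn, Finset.prod_range_succ, Finset.prod_range_succ' (fun i => (τ ^ i : RingAut K) u), ← hn,
    pow_orderOf_eq_one, pow_zero]

/-- The cyclic norm reaches every fixed element. -/
theorem norm_surjective (τ : RingAut K) {r : K} (hr : r ≠ 0) (hrf : τ r = r) :
    ∃ c, c ≠ 0 ∧ ∏ i ∈ Finset.range (orderOf τ), (τ ^ i : RingAut K) c = r := by
  classical
  haveI : Finite Kˣ := inferInstance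
  let φ : Kˣ →* Kˣ :=
    { toFun := fun u => u * (Units.map (τ : K →+* K).toMonoidHom u)⁻¹
      map_one' := by simp
      map_mul' := fun u v => by
        rw [map_mul, mul_inv, mul_mul_mul_comm] }
  have hfix : (cnorm τ).range ≤ φ.ker := by
    rintro _ ⟨u, rfl⟩
    rw [MonoidHom.mem_ker]
    show cnorm τ u * _ = 1
    rw [mul_inv_eq_one]
    refine Units.ext ?_
    rw [Units.coe_map]
    show _ = τ (cnorm τ u : K)
    rw [cnorm_coe, prod_shift]
  have h90 : (cnorm τ).ker ≤ φ.range := by
    intro u hu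
    rw [MonoidHom.mem_ker] at hu
    let T : K →+ K := (AddMonoidHom.mulLeft (u : K)).comp (τ : K →+* K).toAddMonoidHom
    have hTi : ∀ i, T^[i] 1 = ∏ j ∈ Finset.range i, (τ ^ j : RingAut K) (u : K) := by
      intro i
      induction i with
      | zero => rfl
      | succ i ih =>
        rw [Function.iterate_succ_apply', ih, Finset.prod_range_succ']
        show (u : K) * τ _ = _ * (u : K)
        rw [mul_comm, map_prod]
        refine congrArg (· * (u : K)) (Finset.prod_congr rfl fun j _ => ?_)
        rw [pow_succ']; rfl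
    obtain ⟨w, hw0, hw⟩ := exists_fixed τ (orderOf_ringAut_pos τ) T (fun k v => by
        show (u : K) * τ (k * v) = τ k * ((u : K) * τ v)
        rw [map_mul]; ring) (v₀ := (1 : K)) one_ne_zero
      (by rw [hTi, ← cnorm_coe, hu, Units.val_one])
    refine ⟨Units.mk0 w hw0, ?_⟩
    show _ * _ = u
    rw [mul_inv_eq_iff_eq_mul]
    exact Units.ext hw.symm
  have h1 := Subgroup.card_mul_index (cnorm τ).ker
  have h2 := Subgroup.card_mul_index φ.ker
  rw [Subgroup.index_ker] at h1 h2
  have h3 := Subgroup.card_le_of_le hfix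
  have h4 := Subgroup.card_le_of_le h90
  have h5 : Nat.card φ.ker ≤ Nat.card (cnorm τ).range := by
    by_contra hlt
    have : Nat.card (cnorm τ).ker * Nat.card (cnorm τ).range < Nat.card φ.range * Nat.card φ.ker :=
      Nat.mul_lt_mul_of_le_of_lt h4 (lt_of_not_ge hlt) Nat.card_pos
    rw [h1, mul_comm, h2] at this
    exact lt_irrefl _ this
  have heq := Subgroup.eq_of_le_of_card_ge hfix h5
  have hrm : Units.mk0 r hr ∈ (cnorm τ).range := by
    rw [heq, MonoidHom.mem_ker]
    show Units.mk0 r hr * (Units.map (τ : K →+* K).toMonoidHom (Units.mk0 r hr))⁻¹ = 1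
    rw [mul_inv_eq_one]
    exact Units.ext hrf.symm
  obtain ⟨c, hc⟩ := hrm
  refine ⟨(c : K), c.ne_zero, ?_⟩
  rw [← cnorm_coe, hc]
  rfl

/-- A semilinear map whose power of order `τ` is a fixed scalar has an eigenvector. -/
theorem exists_eigen (τ : RingAut K) (T : V →+ V) (hT : ∀ (k : K) v, T (k • v) = τ k • T v)
    {v₀ : V} (hv₀ : v₀ ≠ 0) {r : K} (hr : r ≠ 0) (hrf : τ r = r)
    (h : T^[orderOf τ] v₀ = r • v₀) : ∃ v, ∃ c : K, v ≠ 0 ∧ c ≠ 0 ∧ T v = c • v := by
  obtain ⟨c, hc0, hc⟩ := norm_surjective τ hr hrf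
  let T' : V →+ V := (DistribSMul.toAddMonoidHom V c⁻¹).comp T
  have hT' : ∀ i, T'^[i] v₀ = (∏ j ∈ Finset.range i, (τ ^ j : RingAut K) c)⁻¹ • T^[i] v₀ := by
    intro i
    induction i with
    | zero => simp
    | succ i ih =>
      rw [Function.iterate_succ_apply', ih, Function.iterate_succ_apply']
      show c⁻¹ • T (_ • _) = _
      rw [hT, smul_smul, Finset.prod_range_succ', map_inv₀, map_prod, ← mul_inv, mul_comm c]
      simp only [pow_succ', pow_zero]
      rfl
  obtain ⟨v, hv, hfix⟩ := exists_fixed τ (orderOf_ringAut_pos τ) T'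
    (fun k v => by
      show c⁻¹ • T (k • v) = τ k • c⁻¹ • T v
      rw [hT, smul_comm]) hv₀
    (by rw [hT', h, hc, inv_smul_smul₀ hr])
  refine ⟨v, c, hv, hc0, ?_⟩
  calc T v = c • T' v := (smul_inv_smul₀ hc0 (T v)).symm
    _ = c • v := by rw [hfix]

end Cfsg.Agent.Grp.SpreadField
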