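import Cfsg.Agent.Lib.Grp.SpreadField.Basic
import Cfsg.Agent.Lib.Grp.SpreadField.Dedekind

/-!
# Subfields of a spread set and the vanishing of involutive components
-/

set_option autoImplicit false

universe u

namespace Cfsg.Agent.Grp.SpreadField

open Polynomial

variable {W : Type u} [AddCommGroup W] [Nontrivial W] [Finite W]
variable {S : AddSubgroup (AddMonoid.End W)} (hS : IsSpread S)

omit [Nontrivial W] in
theorem finite_end : Finite (AddMonoid.End W) :=
  Finite.of_injective (fun f : AddMonoid.End W => (f : W → W)) DFunLike.coe_injective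

include hS

/-- A commutative subring inside the set is a field. -/
theorem exists_field_of_sub (F : Subring (AddMonoid.End W))
    (hc : ∀ a ∈ F, ∀ b ∈ F, a * b = b * a) (hF : ∀ a ∈ F, a ∈ S) :
    ∃ (L : Type u) (_ : Field L) (_ : Fintype L) (j : L →+* AddMonoid.End W), j.range = F := by
  classical
  haveI := nontrivial_end (W := W)
  haveI := finite_end (W := W)
  letI : CommRing F := { (inferInstance : Ring F) with mul_comm := fun a b => Subtype.ext (hc _ a.2 _ b.2) }
  haveI : Nontrivial F := ⟨⟨1, 0, fun h => one_ne_zero (congrArg Subtype.val h)⟩⟩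
  haveI : NoZeroDivisors F := ⟨fun {a b} h => by
    by_cases ha : (a : AddMonoid.End W) = 0
    · exact Or.inl (Subtype.ext ha)
    · exact Or.inr (Subtype.ext (eq_zero_of_mul hS (hF _ a.2) ha (congrArg Subtype.val h)))⟩
  haveI : IsDomain F := NoZeroDivisors.to_isDomain _
  letI := Fintype.ofFinite F
  exact ⟨F, Fintype.fieldOfDomain F, inferInstance, F.subtype, F.range_subtype⟩

variable {K : Type u} [Field K] [Finite K] (ι : K →+* AddMonoid.End W) (hι : ∀ k, ι k ∈ S)
include hι

theorem scalar_mul_mem {c : AddMonoid.End W} (hc : c ∈ S) (hc1 : c ∈ comp ι 1) (k : K) :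
    ι k * c ∈ S := by
  have hcomm : ∀ k, c * ι k = ι k * c := hc1
  have hsand : ∀ a, ι (a * a) * c ∈ S := fun a => by
    have h := hS.sand (ι a) (hι a) c hc
    rwa [mul_assoc, hcomm, ← mul_assoc, ← map_mul] at h
  by_cases h2 : (2 : K) = 0
  · obtain ⟨a, ha⟩ : ∃ a, a * a = k := (Finite.injective_iff_surjective (α := K)).mp
      (fun x y hxy => by
        have h3 : (x - y) * (x - y) = 0 := by linear_combination hxy + (y * y - x * y) * h2
        exact sub_eq_zero.mp (mul_self_eq_zero.mp h3)) k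
    rw [← ha]
    exact hsand a
  · have h := S.sub_mem (S.sub_mem (hsand (1 + k / 2)) (hsand 1)) (hsand (k / 2))
    rw [← sub_mul, ← sub_mul, ← map_sub, ← map_sub] at h
    convert h using 3
    field_simp
    ring

/-- Adjoining an element of the set that commutes with the scalars. -/
theorem exists_adjoin {b : AddMonoid.End W} (hb : b ∈ S) (hb1 : b ∈ comp ι 1) :
    ∃ (L : Type u) (_ : Field L) (_ : Fintype L) (j : L →+* AddMonoid.End W),
      (∀ l, j l ∈ S) ∧ (∀ k, ∃ l, j l = ι k) ∧ (∃ l, j l = b) ∧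
      ∀ P : AddMonoid.End W → Prop, (∀ a a', P a → P a' → P (a + a')) →
        (∀ k, ∀ n : ℕ, P (ι k * b ^ n)) → ∀ l, P (j l) := by
  have hcomm : ∀ k, Commute (ι k) b := fun k => (hb1 k).symm
  obtain ⟨f, hf⟩ : ∃ f, f = eval₂RingHom' ι b hcomm := ⟨_, rfl⟩
  have hfm : ∀ n a, f (monomial n a) = ι a * b ^ n := fun n a => by
    rw [hf]; exact eval₂_monomial ι b
  have hP : ∀ P : AddMonoid.End W → Prop, (∀ a a', P a → P a' → P (a + a')) →
      (∀ k, ∀ n : ℕ, P (ι k * b ^ n)) → ∀ g, P (f g) := by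
    intro P hadd hmon g
    induction g using Polynomial.induction_on' with
    | add p q hp hq => rw [map_add]; exact hadd _ _ hp hq
    | monomial n a => rw [hfm]; exact hmon a n
  obtain ⟨L, iL, fL, j, hj⟩ := exists_field_of_sub hS f.range (fun a ha a' ha' => by
      obtain ⟨p, rfl⟩ := ha
      obtain ⟨q, rfl⟩ := ha'
      rw [← map_mul, ← map_mul, mul_comm]) (fun a ha => by
      obtain ⟨p, rfl⟩ := ha
      refine hP (fun z => z ∈ S) (fun _ _ => S.add_mem) (fun k n => ?_) p
      exact scalar_mul_mem hS ι hι (pow_mem hS hb n)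
        (by simpa using pow_comp ι hb1 n) k)
  have hmem : ∀ l, ∃ g, f g = j l := fun l => by
    have : j l ∈ f.range := hj ▸ ⟨l, rfl⟩
    exact this
  have hof : ∀ g, ∃ l, j l = f g := fun g => by
    have : f g ∈ j.range := hj.symm ▸ ⟨g, rfl⟩
    exact this
  refine ⟨L, iL, fL, j, fun l => ?_, fun k => ?_, ?_, fun P hadd hmon l => ?_⟩
  · obtain ⟨g, hg⟩ := hmem l
    rw [← hg]
    exact hP (fun z => z ∈ S) (fun _ _ => S.add_mem) (fun k n => scalar_mul_mem hS ι hι
      (pow_mem hS hb n) (by simpa using pow_comp ι hb1 n) k) g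
  · obtain ⟨l, hl⟩ := hof (monomial 0 k)
    exact ⟨l, by rw [hl, hfm, pow_zero, mul_one]⟩
  · obtain ⟨l, hl⟩ := hof (monomial 1 1)
    exact ⟨l, by rw [hl, hfm, map_one, pow_one, one_mul]⟩
  · obtain ⟨g, hg⟩ := hmem l
    rw [← hg]
    exact hP P hadd hmon g

/-- There is no involutive component. -/
theorem comp_involution_eq_zero {σ : RingAut K} (hσ : σ * σ = 1) (hσ1 : σ ≠ 1)
    {y : AddMonoid.End W} (hy : y ∈ S) (hyσ : y ∈ comp ι σ) : y = 0 := by
  classical
  haveI := nontrivial_end (W := W)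
  haveI := Fintype.ofFinite K
  by_contra hy0
  obtain ⟨y', -, hyy', hy'y⟩ := hS.inv y hy hy0
  have hb1 : y * y ∈ comp ι 1 := hσ ▸ mul_comp ι hyσ hyσ
  have hb : y * y ∈ S := by simpa [pow_two] using pow_mem hS hy 2
  obtain ⟨L, iL, fL, j, hjS, hjι, ⟨lb, hlb⟩, hjP⟩ := exists_adjoin hS ι hι hb hb1
  have hby : ∀ n : ℕ, y * (y * y) ^ n = (y * y) ^ n * y := fun n =>
    ((Commute.refl y).mul_right (Commute.refl y)).pow_right n |>.eq
  have hex : ∀ l, ∃ l', j l' * y = y * j l := by
    refine hjP (fun a => ∃ l', j l' * y = y * a) ?_ ?_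
    · rintro a a' ⟨l, hl⟩ ⟨l', hl'⟩
      exact ⟨l + l', by rw [map_add, add_mul, hl, hl', mul_add]⟩
    · intro k n
      obtain ⟨l₁, hl₁⟩ := hjι (σ k)
      refine ⟨l₁ * lb ^ n, ?_⟩
      rw [map_mul, map_pow, hlb, hl₁, mul_assoc, ← hby, ← mul_assoc, ← hyσ k, mul_assoc]
  choose f hf using hex
  have huniq : ∀ l l', j l' * y = y * j l → f l = l' := fun l l' h => by
    have h0 : j (f l - l') * y = 0 := by rw [map_sub, sub_mul, hf, h, sub_self]
    exact sub_eq_zero.mp (j.injective.eq_iff' (map_zero j) |>.mp (eq_zero_of_mul' hS hy hy0 h0))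
  let fh : L →+* L :=
    { toFun := f
      map_one' := huniq _ _ (by simp)
      map_mul' := fun a b => huniq _ _ (by
        rw [map_mul, mul_assoc, hf, ← mul_assoc, hf, map_mul, mul_assoc])
      map_zero' := huniq _ _ (by simp)
      map_add' := fun a b => huniq _ _ (by rw [map_add, add_mul, hf, hf, map_add, mul_add]) }
  have hcomm : ∀ l, (y * y) * j l = j l * (y * y) := fun l => by
    rw [← hlb, ← map_mul, ← map_mul, mul_comm]
  have hff : ∀ l, f (f l) = l := fun l => huniq _ _ (by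
    have h : (j l * y - y * j (f l)) * y = 0 := by
      rw [sub_mul, mul_assoc (j l), mul_assoc y, hf, ← hcomm, mul_assoc, sub_self]
    exact sub_eq_zero.mp (eq_zero_of_mul' hS hy hy0 h))
  obtain ⟨ρ, hρ⟩ : ∃ ρ : RingAut L, ∀ l, ρ l = f l :=
    ⟨RingEquiv.ofBijective fh (Function.Involutive.bijective hff), fun l => rfl⟩
  obtain ⟨k, hk⟩ : ∃ k, σ k ≠ k := by
    by_contra! hc
    exact hσ1 (RingEquiv.ext hc)
  obtain ⟨lk, hlk⟩ := hjι k
  have hnc : y * ι k ≠ ι k * y := fun h => by
    rw [hyσ k, ← sub_eq_zero, ← sub_mul, ← map_sub] at h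
    exact hy0 ((scalar_mul_eq_zero ι h).resolve_left (sub_ne_zero.mpr hk))
  have hnj : ∀ l, y ≠ j l := fun l hl => hnc (by
    rw [hl, ← hlk, ← map_mul, ← map_mul, mul_comm])
  have hρ1 : ρ ≠ 1 := fun h => hnc (by
    have h1 := hf lk
    rw [← hρ, h] at h1
    change j lk * y = y * j lk at h1
    rw [hlk] at h1
    exact h1.symm)
  have hord : orderOf ρ = 2 := orderOf_eq_prime (RingEquiv.ext fun l => by
    show ρ (ρ l) = l
    rw [hρ, hρ, hff]) hρ1
  have hlb0 : lb ≠ 0 := fun h => by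
    rw [h, map_zero] at hlb
    exact hy0 (eq_zero_of_mul hS hy hy0 hlb.symm)
  have hlbf : ρ lb = lb := by
    rw [hρ]
    exact huniq _ _ (by rw [hlb, mul_assoc])
  obtain ⟨a, -, ha⟩ := norm_surjective ρ hlb0 hlbf
  rw [hord, Finset.prod_range_succ, Finset.prod_range_one, pow_zero, pow_one] at ha
  change a * ρ a = lb at ha
  have hmid : y * j (ρ a) = j a * y := by
    rw [hρ, ← hf (f a), hff]
  have hprod : (j a + y) * (j (ρ a) - y) = 0 := by
    rw [mul_sub, add_mul, add_mul, hmid, ← map_mul, ha, hlb]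
    abel
  have h1 : j a + y ≠ 0 := fun h => hnj (-a) (by rw [map_neg]; exact eq_neg_of_add_eq_zero_right h)
  exact hnj (ρ a) (sub_eq_zero.mp (eq_zero_of_mul hS (S.add_mem (hjS a) hy) h1 hprod)).symm

end Cfsg.Agent.Grp.SpreadField
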