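import Mathlib

/-!
# Spread sets closed under the sandwich product

Hua's identity, and the projections to the components of the operators over a field inside the set.
-/

set_option autoImplicit false

universe u

namespace Cfsg.Agent.Grp.SpreadField

open Polynomial

variable {W : Type u} [AddCommGroup W]

/-- The hypotheses on the set of operators. -/
structure IsSpread (S : AddSubgroup (AddMonoid.End W)) : Prop where
  one_mem : (1 : AddMonoid.End W) ∈ S
  sand : ∀ a ∈ S, ∀ b ∈ S, a * b * a ∈ S
  inv : ∀ s ∈ S, s ≠ 0 → ∃ t ∈ S, s * t = 1 ∧ t * s = 1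
  inj : ∀ s ∈ S, s ≠ 0 → ∀ v, s v = 0 → v = 0
  card : Nat.card S = Nat.card W

theorem nontrivial_end [Nontrivial W] : Nontrivial (AddMonoid.End W) := by
  obtain ⟨v, hv⟩ := exists_ne (0 : W)
  exact ⟨⟨1, 0, fun h => hv (DFunLike.congr_fun h v)⟩⟩

/-- Hua's identity: two additive sets inverse to each other are closed under the sandwich product. -/
theorem isSpread_of_inverse [Nontrivial W] (S T : AddSubgroup (AddMonoid.End W))
    (h1 : (1 : AddMonoid.End W) ∈ S) (hinj : ∀ s ∈ S, s ≠ 0 → ∀ v, s v = 0 → v = 0)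
    (hST : ∀ s ∈ S, s ≠ 0 → ∃ t ∈ T, s * t = 1 ∧ t * s = 1)
    (hTS : ∀ t ∈ T, t ≠ 0 → ∃ s ∈ S, s * t = 1 ∧ t * s = 1)
    (hcard : Nat.card S = Nat.card W) : IsSpread S := by
  haveI := nontrivial_end (W := W)
  have huniq : ∀ {a b c : AddMonoid.End W}, b * a = 1 → a * c = 1 → b = c := fun {a b c} hb hc => by
    rw [← mul_one b, ← hc, ← mul_assoc, hb, one_mul]
  have hua : ∀ a ∈ S, ∀ b ∈ T, a * b * a ∈ S := by
    intro a ha b hb
    by_cases ha0 : a = 0
    · rw [ha0, mul_zero]; exact S.zero_mem
    by_cases hb0 : b = 0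
    · rw [hb0, mul_zero, zero_mul]; exact S.zero_mem
    obtain ⟨a', ha', haa, haa'⟩ := hST a ha ha0
    obtain ⟨b', hb', hbb, hbb'⟩ := hTS b hb hb0
    by_cases hd : b' - a = 0
    · rw [← sub_eq_zero.mp hd, hbb, one_mul]; exact hb'
    obtain ⟨d', hd', hdd, hdd'⟩ := hST _ (S.sub_mem hb' ha) hd
    have key : (a' + d') * ((b' - a) * b * a) = 1 := by
      have e1 : a' + d' = a' * b' * d' := by
        have e2 : a' * ((b' - a) + a) * d' = a' + d' := by
          rw [mul_add, add_mul, mul_assoc, hdd, mul_one, haa', one_mul]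
        rwa [sub_add_cancel, eq_comm] at e2
      rw [e1, mul_assoc (a' * b'), ← mul_assoc d', ← mul_assoc d', hdd', one_mul, ← mul_assoc,
        mul_assoc a' b' b, hbb, mul_one, haa']
    have he0 : a' + d' ≠ 0 := fun h0 => by rw [h0, zero_mul] at key; exact zero_ne_one key
    obtain ⟨e', he', hee, hee'⟩ := hTS _ (T.add_mem ha' hd') he0
    have he : e' = (b' - a) * b * a := huniq hee key
    rw [sub_mul, sub_mul, hbb, one_mul] at he
    have h3 := S.sub_mem ha he'
    rwa [he, sub_sub_cancel] at h3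
  have hTS' : ∀ t ∈ T, t ∈ S := fun t ht => by
    have := hua 1 h1 t ht
    rwa [one_mul, mul_one] at this
  have hinv : ∀ s ∈ S, s ≠ 0 → ∃ t ∈ S, s * t = 1 ∧ t * s = 1 := fun s hs hs0 => by
    obtain ⟨t, ht, h⟩ := hST s hs hs0
    exact ⟨t, hTS' t ht, h⟩
  have hST' : ∀ s ∈ S, s ∈ T := fun s hs => by
    by_cases hs0 : s = 0
    · rw [hs0]; exact T.zero_mem
    obtain ⟨t, ht, hst, hts⟩ := hinv s hs hs0
    have ht0 : t ≠ 0 := fun h0 => by rw [h0, mul_zero] at hst; exact zero_ne_one hst
    obtain ⟨u, hu, htu, hut⟩ := hST t ht ht0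
    rwa [huniq hst htu]
  exact ⟨h1, fun a ha b hb => hua a ha b (hST' b hb), hinv, hinj, hcard⟩

variable {S : AddSubgroup (AddMonoid.End W)} (hS : IsSpread S)
include hS

theorem pow_mem {a : AddMonoid.End W} (ha : a ∈ S) : ∀ n : ℕ, a ^ n ∈ S
  | 0 => by rw [pow_zero]; exact hS.one_mem
  | 1 => by rwa [pow_one]
  | n + 2 => by
    rw [pow_succ, pow_succ']
    exact hS.sand a ha _ (pow_mem ha n)

theorem sym_mem {a b c : AddMonoid.End W} (ha : a ∈ S) (hb : b ∈ S) (hc : c ∈ S) :
    a * c * b + b * c * a ∈ S := by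
  have h := S.sub_mem (S.sub_mem (hS.sand _ (S.add_mem ha hb) c hc) (hS.sand a ha c hc))
    (hS.sand b hb c hc)
  convert h using 1
  simp only [add_mul, mul_add]
  abel

theorem eq_zero_of_mul {a b : AddMonoid.End W} (ha : a ∈ S) (ha0 : a ≠ 0) (h : a * b = 0) :
    b = 0 := by
  obtain ⟨t, -, -, hta⟩ := hS.inv a ha ha0
  rw [← one_mul b, ← hta, mul_assoc, h, mul_zero]

theorem eq_zero_of_mul' {a b : AddMonoid.End W} (ha : a ∈ S) (ha0 : a ≠ 0) (h : b * a = 0) :
    b = 0 := by
  obtain ⟨t, -, hat, -⟩ := hS.inv a ha ha0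
  rw [← mul_one b, ← hat, ← mul_assoc, h, zero_mul]

theorem eq_zero_of_pow [Nontrivial W] {a : AddMonoid.End W} (ha : a ∈ S) :
    ∀ n : ℕ, a ^ n = 0 → a = 0
  | 0, h => by
    haveI := nontrivial_end (W := W)
    rw [pow_zero] at h
    exact absurd h one_ne_zero
  | n + 1, h => by
    by_contra ha0
    rw [pow_succ'] at h
    exact ha0 (eq_zero_of_pow ha n (eq_zero_of_mul hS ha ha0 h))

/-- A symmetric double sum. -/
theorem sum_sym_mem {α : Type*} (s : Finset α) (f : α → α → AddMonoid.End W)
    (hd : ∀ i, f i i ∈ S) (ho : ∀ i j, f i j + f j i ∈ S) : ∑ i ∈ s, ∑ j ∈ s, f i j ∈ S := by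
  have := hS.one_mem
  classical
  induction s using Finset.induction_on with
  | empty => simp
  | insert a s ha ih =>
    have e : ∑ i ∈ insert a s, ∑ j ∈ insert a s, f i j =
        f a a + ∑ j ∈ s, (f a j + f j a) + ∑ i ∈ s, ∑ j ∈ s, f i j := by
      simp only [Finset.sum_insert ha, Finset.sum_add_distrib]
      abel
    rw [e]
    exact S.add_mem (S.add_mem (hd a) (S.sum_mem fun j _ => ho a j)) ih

omit hS

variable {K : Type u} [Field K] (ι : K →+* AddMonoid.End W)

/-- The component of operators twisting the scalars by `τ`. -/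
def comp (τ : RingAut K) : AddSubgroup (AddMonoid.End W) where
  carrier := {z | ∀ k, z * ι k = ι (τ k) * z}
  add_mem' {a b} ha hb k := by rw [add_mul, mul_add, ha k, hb k]
  zero_mem' k := by rw [zero_mul, mul_zero]
  neg_mem' {a} ha k := by rw [neg_mul, mul_neg, ha k]

theorem mem_comp {τ : RingAut K} {z : AddMonoid.End W} :
    z ∈ comp ι τ ↔ ∀ k, z * ι k = ι (τ k) * z := Iff.rfl

theorem mul_comp {σ τ : RingAut K} {z w : AddMonoid.End W} (hz : z ∈ comp ι σ) (hw : w ∈ comp ι τ) :
    z * w ∈ comp ι (σ * τ) := fun k => by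
  rw [mul_assoc, hw, ← mul_assoc, hz, mul_assoc]
  rfl

theorem pow_comp {σ : RingAut K} {z : AddMonoid.End W} (hz : z ∈ comp ι σ) :
    ∀ n : ℕ, z ^ n ∈ comp ι (σ ^ n)
  | 0 => fun k => by simp
  | n + 1 => by rw [pow_succ, pow_succ]; exact mul_comp ι (pow_comp hz n) hz

theorem scalar_comp (c : K) : ι c ∈ comp ι 1 := fun k => by
  rw [← map_mul, ← map_mul, mul_comm]; rfl

theorem smul_comp {τ : RingAut K} (c : K) {z : AddMonoid.End W} (hz : z ∈ comp ι τ) :
    ι c * z ∈ comp ι τ := by
  simpa using mul_comp ι (scalar_comp ι c) hz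

/-- The sandwich operator with coefficient families `u` and `v`. -/
def sw (n : ℕ) (u v : ℕ → K) : AddMonoid.End W →+ AddMonoid.End W where
  toFun z := ∑ i ∈ Finset.range n, ι (u i) * z * ι (v i)
  map_zero' := by simp
  map_add' z w := by simp [mul_add, add_mul, Finset.sum_add_distrib]

theorem sw_comp {n : ℕ} {u v : ℕ → K} {τ : RingAut K} {z : AddMonoid.End W} (hz : z ∈ comp ι τ) :
    sw ι n u v z = ι (∑ i ∈ Finset.range n, u i * τ (v i)) * z := by
  show ∑ i ∈ Finset.range n, ι (u i) * z * ι (v i) = _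
  rw [map_sum, Finset.sum_mul]
  refine Finset.sum_congr rfl fun i _ => ?_
  rw [mul_assoc, hz, ← mul_assoc, ← map_mul]

theorem sw_smul {n : ℕ} {u v : ℕ → K} (c : K) (z : AddMonoid.End W) :
    sw ι n (fun i => c * u i) v z = ι c * sw ι n u v z := by
  show ∑ i ∈ Finset.range n, ι (c * u i) * z * ι (v i) =
    ι c * ∑ i ∈ Finset.range n, ι (u i) * z * ι (v i)
  simp only [Finset.mul_sum, map_mul, mul_assoc]

/-- Evaluation of a polynomial by scalars on the left and powers of `θ` on the right. -/
noncomputable def evz (θ : K) (z : AddMonoid.End W) : K[X] →+ AddMonoid.End W where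
  toFun f := f.sum fun j c => ι c * z * ι (θ ^ j)
  map_zero' := Polynomial.sum_zero_index _
  map_add' f g := Polynomial.sum_add_index f g _ (fun i => by simp) fun i a b => by
    simp [add_mul]

theorem evz_monomial (θ : K) (z : AddMonoid.End W) (n : ℕ) (a : K) :
    evz ι θ z (monomial n a) = ι a * z * ι (θ ^ n) :=
  Polynomial.sum_monomial_index a (fun j c => ι c * z * ι (θ ^ j)) (by simp)

theorem evz_mul_X (θ : K) (z : AddMonoid.End W) (f : K[X]) :
    evz ι θ z (f * X) = evz ι θ z f * ι θ := by
  induction f using Polynomial.induction_on' with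
  | add p q hp hq => rw [add_mul, map_add, map_add, hp, hq, add_mul]
  | monomial n a =>
    rw [Polynomial.monomial_mul_X, evz_monomial, evz_monomial, mul_assoc (ι a * z), ← map_mul,
      pow_succ]

theorem evz_C_mul (θ : K) (z : AddMonoid.End W) (c : K) (f : K[X]) :
    evz ι θ z (C c * f) = ι c * evz ι θ z f := by
  induction f using Polynomial.induction_on' with
  | add p q hp hq => rw [mul_add, map_add, map_add, hp, hq, mul_add]
  | monomial n a =>
    rw [Polynomial.C_mul_monomial, evz_monomial, evz_monomial, map_mul]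
    simp only [mul_assoc]

variable [Fintype K]

theorem evz_eq_zero (θ : K) (z : AddMonoid.End W) (g : K[X]) (hd : g.natDegree ≤ Fintype.card K)
    (h0 : ∀ x, g.eval x = 0) : evz ι θ z g = 0 := by
  classical
  have h1 : 1 < Fintype.card K := Fintype.one_lt_card
  have hg : g = C (g.coeff (Fintype.card K)) * (X ^ Fintype.card K - X) := by
    rw [← sub_eq_zero]
    refine Polynomial.eq_zero_of_natDegree_lt_card_of_eval_eq_zero _ (f := (id : K → K))
      Function.injective_id (fun i => by simp [h0, FiniteField.pow_card]) ?_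
    refine lt_of_le_of_ne ?_ ?_
    · refine (Polynomial.natDegree_sub_le _ _).trans (max_le hd ?_)
      refine (Polynomial.natDegree_C_mul_le _ _).trans ?_
      rw [FiniteField.X_pow_card_sub_X_natDegree_eq K h1]
    · intro he
      have hc : (g - C (g.coeff (Fintype.card K)) * (X ^ Fintype.card K - X)).coeff
          (Fintype.card K) = 0 := by
        rw [coeff_sub, coeff_C_mul, coeff_sub, coeff_X_pow_self, coeff_X, if_neg (by omega)]
        simp
      have hne : g - C (g.coeff (Fintype.card K)) * (X ^ Fintype.card K - X) ≠ 0 := fun e => by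
        rw [e, natDegree_zero] at he; omega
      refine hne (Polynomial.leadingCoeff_eq_zero.mp ?_)
      rw [Polynomial.leadingCoeff, he]
      exact hc
  rw [hg, evz_C_mul, map_sub, ← monomial_one_one_eq_X, monomial_pow, evz_monomial, evz_monomial]
  simp [FiniteField.pow_card]

/-- A generator of the nonzero scalars. -/
noncomputable def gen (K : Type u) [Field K] [Fintype K] : K :=
  ((IsCyclic.exists_generator (α := Kˣ)).choose : Kˣ)

theorem eq_of_gen {A : Type*} [MonoidWithZero A] (f g : K →*₀ A) (h : f (gen K) = g (gen K))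
    (k : K) : f k = g k := by
  by_cases hk : k = 0
  · simp [hk]
  have hmem := (IsCyclic.exists_generator (α := Kˣ)).choose_spec (Units.mk0 k hk)
  obtain ⟨j, hj⟩ := (mem_powers_iff_mem_zpowers.mpr hmem)
  have e : k = gen K ^ j := by
    have := congrArg (fun u : Kˣ => (u : K)) hj
    simpa [gen] using this.symm
  rw [e, map_pow, map_pow, h]

theorem ringAut_eq_of_gen {σ τ : RingAut K} (h : σ (gen K) = τ (gen K)) : σ = τ :=
  RingEquiv.ext fun k => eq_of_gen ((σ : K →+* K).toMonoidWithZeroHom)
    ((τ : K →+* K).toMonoidWithZeroHom) h k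

open scoped Classical in
/-- The coefficients of the projection. -/
noncomputable def cf (l : K) (j : ℕ) : K := (Lagrange.basis Finset.univ (id : K → K) l).coeff j

open scoped Classical in
/-- The projection to a component. -/
noncomputable def proj (τ : RingAut K) : AddMonoid.End W →+ AddMonoid.End W :=
  sw ι (Fintype.card K) (cf (τ (gen K))) (fun j => gen K ^ j)

theorem basis_natDegree [DecidableEq K] (l : K) :
    (Lagrange.basis Finset.univ (id : K → K) l).natDegree = Fintype.card K - 1 := by
  rw [Lagrange.natDegree_basis Function.injective_id.injOn (Finset.mem_univ l), Finset.card_univ]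

theorem sum_cf (l x : K) [DecidableEq K] :
    ∑ j ∈ Finset.range (Fintype.card K), cf l j * x ^ j = if x = l then 1 else 0 := by
  have h1 : 1 < Fintype.card K := Fintype.one_lt_card
  have e := Polynomial.eval_eq_sum_range' (p := Lagrange.basis Finset.univ (id : K → K) l)
    (n := Fintype.card K) (by rw [basis_natDegree]; omega) x
  have : (fun j => cf l j) = (Lagrange.basis Finset.univ (id : K → K) l).coeff := by
    ext j; unfold cf; congr!
  simp only [funext_iff] at this
  simp only [this, ← e]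
  split_ifs with h
  · rw [h]; exact Lagrange.eval_basis_self Function.injective_id.injOn (Finset.mem_univ l)
  · exact Lagrange.eval_basis_of_ne (v := (id : K → K)) (fun e => h e.symm) (Finset.mem_univ x)

theorem evz_basis [DecidableEq K] (z : AddMonoid.End W) (l : K) :
    evz ι (gen K) z (Lagrange.basis Finset.univ (id : K → K) l) =
      sw ι (Fintype.card K) (cf l) (fun j => gen K ^ j) z := by
  have h1 : 1 < Fintype.card K := Fintype.one_lt_card
  have : (fun j => cf l j) = (Lagrange.basis Finset.univ (id : K → K) l).coeff := by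
    ext j; unfold cf; congr!
  refine (Polynomial.sum_over_range' _ (f := fun j c => ι c * z * ι (gen K ^ j)) (fun j => by simp)
    (Fintype.card K) (by rw [basis_natDegree]; omega)).trans ?_
  simp only [funext_iff] at this
  refine Finset.sum_congr rfl fun j _ => ?_
  rw [this]

theorem evz_eigen [DecidableEq K] (z : AddMonoid.End W) (l : K) :
    evz ι (gen K) z (Lagrange.basis Finset.univ (id : K → K) l) * ι (gen K) =
      ι l * evz ι (gen K) z (Lagrange.basis Finset.univ (id : K → K) l) := by
  have h1 : 1 < Fintype.card K := Fintype.one_lt_card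
  rw [← sub_eq_zero, ← evz_mul_X, ← evz_C_mul, ← map_sub]
  refine evz_eq_zero ι _ _ _ ?_ fun x => ?_
  · refine (Polynomial.natDegree_sub_le _ _).trans (max_le ?_ ?_)
    · refine Polynomial.natDegree_mul_le.trans ?_
      rw [basis_natDegree, natDegree_X]; omega
    · refine (Polynomial.natDegree_C_mul_le _ _).trans ?_
      rw [basis_natDegree]; omega
  · rw [eval_sub, eval_mul, eval_mul, eval_X, eval_C]
    by_cases h : x = l
    · rw [h]; ring
    · have h0 : (Lagrange.basis Finset.univ (id : K → K) l).eval (id x) = 0 :=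
        Lagrange.eval_basis_of_ne (fun e => h e.symm) (Finset.mem_univ x)
      rw [id] at h0
      rw [h0]; ring

variable [Nontrivial W]

theorem scalar_mul_eq_zero {k : K} {z : AddMonoid.End W} (h : ι k * z = 0) : k = 0 ∨ z = 0 := by
  by_cases hk : k = 0
  · exact Or.inl hk
  · refine Or.inr ?_
    rw [← one_mul z, ← map_one ι, ← inv_mul_cancel₀ hk, map_mul, mul_assoc, h, mul_zero]

/-- An eigen operator for `θ` lies in a component. -/
theorem exists_comp {z : AddMonoid.End W} (hz : z ≠ 0) {l : K} (h : z * ι (gen K) = ι l * z) :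
    ∃ τ : RingAut K, τ (gen K) = l ∧ z ∈ comp ι τ := by
  have hex : ∀ k, ∃ k', z * ι k = ι k' * z := fun k => by
    by_cases hk : k = 0
    · exact ⟨0, by simp [hk]⟩
    have hmem := (IsCyclic.exists_generator (α := Kˣ)).choose_spec (Units.mk0 k hk)
    obtain ⟨j, hj⟩ := (mem_powers_iff_mem_zpowers.mpr hmem)
    have e : k = gen K ^ j := by
      have := congrArg (fun u : Kˣ => (u : K)) hj
      simpa [gen] using this.symm
    subst e
    refine ⟨l ^ j, ?_⟩
    clear hk hmem hj
    induction j with
    | zero => simp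
    | succ j ih => rw [pow_succ, map_mul, ← mul_assoc, ih, mul_assoc, h, ← mul_assoc, ← map_mul,
        pow_succ]
  choose f hf using hex
  have huniq : ∀ k k', z * ι k = ι k' * z → f k = k' := fun k k' hk => by
    have h0 : ι (f k - k') * z = 0 := by rw [map_sub, sub_mul, ← hf, hk, sub_self]
    exact sub_eq_zero.mp ((scalar_mul_eq_zero ι h0).resolve_right hz)
  let fh : K →+* K :=
    { toFun := f
      map_one' := huniq _ _ (by simp)
      map_mul' := fun a b => huniq _ _ (by
        rw [map_mul, ← mul_assoc, hf, mul_assoc, hf, ← mul_assoc, ← map_mul])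
      map_zero' := huniq _ _ (by simp)
      map_add' := fun a b => huniq _ _ (by rw [map_add, map_add, mul_add, add_mul, hf, hf]) }
  refine ⟨RingEquiv.ofBijective fh (Finite.injective_iff_bijective.mp fh.injective), ?_, ?_⟩
  · exact huniq _ _ h
  · exact hf

theorem proj_mem (τ : RingAut K) (z : AddMonoid.End W) : proj ι τ z ∈ comp ι τ := by
  classical
  by_cases h0 : proj ι τ z = 0
  · rw [h0]; exact zero_mem _
  have h := evz_eigen ι z (τ (gen K))
  rw [evz_basis] at h
  obtain ⟨τ', hτ', hm⟩ := exists_comp ι h0 h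
  rwa [ringAut_eq_of_gen hτ'] at hm

theorem proj_of_comp [DecidableEq (RingAut K)] {τ σ : RingAut K} {z : AddMonoid.End W}
    (hz : z ∈ comp ι σ) : proj ι τ z = if σ = τ then z else 0 := by
  classical
  rw [proj, sw_comp ι hz]
  simp only [map_pow]
  rw [sum_cf]
  by_cases h : σ = τ
  · simp [h]
  · rw [if_neg h, if_neg fun e => h (ringAut_eq_of_gen e), map_zero, zero_mul]

theorem sum_proj [Fintype (RingAut K)] (z : AddMonoid.End W) :
    ∑ τ : RingAut K, proj ι τ z = z := by
  classical
  have h1 : ∑ l : K, evz ι (gen K) z (Lagrange.basis Finset.univ (id : K → K) l) = z := by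
    rw [← map_sum, Lagrange.sum_basis Function.injective_id.injOn Finset.univ_nonempty,
      ← monomial_zero_one, evz_monomial]
    simp
  refine Eq.trans ?_ h1
  simp only [evz_basis]
  rw [show (∑ τ : RingAut K, proj ι τ z) = ∑ l ∈ Finset.univ.image (fun τ : RingAut K => τ (gen K)),
      sw ι (Fintype.card K) (cf l) (fun j => gen K ^ j) z from
    (Finset.sum_image (f := fun l => sw ι (Fintype.card K) (cf l) (fun j => gen K ^ j) z)
      (g := fun τ : RingAut K => τ (gen K)) fun σ _ τ _ h => ringAut_eq_of_gen h).symm]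
  refine Finset.sum_subset (Finset.subset_univ _) fun l _ hl => ?_
  by_contra h0
  have h := evz_eigen ι z l
  rw [evz_basis] at h
  obtain ⟨τ, hτ, -⟩ := exists_comp ι h0 h
  exact hl (Finset.mem_image.mpr ⟨τ, Finset.mem_univ _, hτ⟩)

theorem sw_transpose_of_comp [DecidableEq (RingAut K)] {τ σ : RingAut K} {z : AddMonoid.End W}
    (hz : z ∈ comp ι τ) (c : K) :
    sw ι (Fintype.card K) (fun j => gen K ^ j) (fun j => c * cf (σ (gen K)) j) z =
      if τ = σ⁻¹ then ι (τ c) * z else 0 := by
  classical
  rw [sw_comp ι hz]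
  have e : ∑ i ∈ Finset.range (Fintype.card K), gen K ^ i * τ (c * cf (σ (gen K)) i) =
      τ (c * ∑ i ∈ Finset.range (Fintype.card K), cf (σ (gen K)) i * (τ.symm (gen K)) ^ i) := by
    rw [Finset.mul_sum, map_sum]
    refine Finset.sum_congr rfl fun i _ => ?_
    rw [map_mul, map_mul, map_mul, map_pow, RingEquiv.apply_symm_apply]
    ring
  rw [e, sum_cf]
  by_cases h : τ = σ⁻¹
  · subst h
    rw [if_pos rfl, if_pos ?_, mul_one]
    rfl
  · rw [if_neg h, if_neg ?_, mul_zero, map_zero, map_zero, zero_mul]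
    intro e
    have : τ⁻¹ = σ := ringAut_eq_of_gen e
    exact h (by rw [← this, inv_inv])

include hS

variable (hι : ∀ k, ι k ∈ S)
include hι

theorem sw_add_transpose_mem (n : ℕ) (u v : ℕ → K) {s : AddMonoid.End W} (hs : s ∈ S) :
    sw ι n u v s + sw ι n v u s ∈ S := by
  show (∑ i ∈ _, _) + (∑ i ∈ _, _) ∈ S
  rw [← Finset.sum_add_distrib]
  exact S.sum_mem fun i _ => sym_mem hS (hι _) (hι _) hs

theorem sw_comp_transpose_mem (n : ℕ) (u v : ℕ → K) {s : AddMonoid.End W} (hs : s ∈ S) :
    sw ι n u v (sw ι n v u s) ∈ S := by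
  show ∑ i ∈ Finset.range n, ι (u i) * (∑ j ∈ Finset.range n, ι (v j) * s * ι (u j)) * ι (v i) ∈ S
  have e : ∀ i j, ι (u i) * (ι (v j) * s * ι (u j)) * ι (v i) =
      ι (u i * v j) * s * ι (u j * v i) := fun i j => by
    simp only [map_mul, mul_assoc]
  simp only [Finset.mul_sum, Finset.sum_mul, e]
  exact sum_sym_mem hS _ _ (fun i => hS.sand _ (hι _) _ hs) fun i j =>
    sym_mem hS (hι _) (hι _) hs

/-- An involutive component stays in the set. -/
theorem proj_mem_of_sq {σ : RingAut K} (hσ : σ * σ = 1) {s : AddMonoid.End W} (hs : s ∈ S) :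
    proj ι σ s ∈ S := by
  classical
  haveI : Finite (RingAut K) :=
    Finite.of_injective (fun g : RingAut K => (g : K → K)) DFunLike.coe_injective
  letI := Fintype.ofFinite (RingAut K)
  have h := sw_comp_transpose_mem hS ι hι (Fintype.card K) (cf (σ (gen K))) (fun j => gen K ^ j) hs
  have hinv : σ⁻¹ = σ := inv_eq_of_mul_eq_one_right hσ
  have e : sw ι (Fintype.card K) (fun j => gen K ^ j) (cf (σ (gen K))) s = proj ι σ s := by
    conv_lhs => rw [← sum_proj ι s, map_sum]
    have e1 : ∀ τ : RingAut K, sw ι (Fintype.card K) (fun j => gen K ^ j) (cf (σ (gen K)))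
        (proj ι τ s) = if τ = σ then proj ι τ s else 0 := fun τ => by
      have := sw_transpose_of_comp ι (σ := σ) (proj_mem ι τ s) 1
      simp only [one_mul, map_one, hinv] at this
      exact this
    simp only [e1, Finset.sum_ite_eq', Finset.mem_univ, if_true]
  rw [e] at h
  change proj ι σ (proj ι σ s) ∈ S at h
  rwa [proj_of_comp ι (proj_mem ι σ s), if_pos rfl] at h

/-- A pair of mutually inverse components stays in the set, with scalars. -/
theorem pair_mem {σ : RingAut K} (hσ : σ * σ ≠ 1) {s : AddMonoid.End W} (hs : s ∈ S) (c : K) :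
    ι c * proj ι σ s + ι (σ.symm c) * proj ι σ⁻¹ s ∈ S := by
  classical
  haveI : Finite (RingAut K) :=
    Finite.of_injective (fun g : RingAut K => (g : K → K)) DFunLike.coe_injective
  letI := Fintype.ofFinite (RingAut K)
  have h := sw_add_transpose_mem hS ι hι (Fintype.card K) (fun j => c * cf (σ (gen K)) j)
    (fun j => gen K ^ j) hs
  rw [sw_smul] at h
  have e1 : ∀ τ : RingAut K, sw ι (Fintype.card K) (fun j => gen K ^ j)
      (fun j => c * cf (σ (gen K)) j) (proj ι τ s) =
        if τ = σ⁻¹ then ι (τ c) * proj ι τ s else 0 := fun τ =>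
    sw_transpose_of_comp ι (σ := σ) (proj_mem ι τ s) c
  have e2 : sw ι (Fintype.card K) (fun j => gen K ^ j) (fun j => c * cf (σ (gen K)) j) s =
      ι (σ.symm c) * proj ι σ⁻¹ s := by
    conv_lhs => rw [← sum_proj ι s, map_sum, Finset.sum_congr rfl (fun τ _ => e1 τ)]
    rw [Finset.sum_ite_eq' Finset.univ σ⁻¹ (fun τ => ι (τ c) * proj ι τ s),
      if_pos (Finset.mem_univ _)]
    rfl
  rw [e2] at h
  exact h

end Cfsg.Agent.Grp.SpreadField
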