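import Cfsg.Agent.Lib.Grp.SpreadField.Pair

/-!
# A finite spread set closed under inversion is a field
-/

set_option autoImplicit false

universe u

namespace Cfsg.Agent.Grp.SpreadField

open Polynomial

variable {W : Type u} [AddCommGroup W] [Finite W] [Nontrivial W]
variable {S : AddSubgroup (AddMonoid.End W)} (hS : IsSpread S)

/-- A vector space power law for the cardinality. -/
theorem card_eq_pow (L : Type*) (V : Type*) [Field L] [Finite L] [AddCommGroup V] [Module L V]
    [Finite V] : ∃ e, Nat.card V = Nat.card L ^ e :=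
  ⟨Module.finrank L V, Module.natCard_eq_pow_finrank⟩

theorem fixed_mem {K : Type*} [Field K] (σ : RingAut K) (k : K) :
    k ∈ FixedPoints.subfield (Subgroup.zpowers σ) K ↔ σ k = k := by
  refine ⟨fun h => h ⟨σ, Subgroup.mem_zpowers σ⟩, fun h g => ?_⟩
  have hle : Subgroup.zpowers σ ≤ MulAction.stabilizer (RingAut K) k :=
    Subgroup.zpowers_le.mpr h
  exact hle g.2

theorem card_fixed_pow {K : Type*} [Field K] [Finite K] (σ : RingAut K) :
    Nat.card K = Nat.card (FixedPoints.subfield (Subgroup.zpowers σ) K) ^ orderOf σ := by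
  haveI : Finite (RingAut K) :=
    Finite.of_injective (fun g : RingAut K => (g : K → K)) DFunLike.coe_injective
  haveI := Fintype.ofFinite (Subgroup.zpowers σ)
  haveI : FaithfulSMul (Subgroup.zpowers σ) K :=
    ⟨fun {a b} h => Subtype.ext (RingEquiv.ext h)⟩
  rw [Module.natCard_eq_pow_finrank (K := FixedPoints.subfield (Subgroup.zpowers σ) K) (V := K),
    FixedPoints.finrank_eq_card (Subgroup.zpowers σ) K, ← Nat.card_eq_fintype_card, Nat.card_zpowers]

section Pair

variable {K : Type u} [Field K] [Fintype K] {ι : K →+* AddMonoid.End W}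
variable (hι : ∀ k, ι k ∈ S) (hmax : ∀ c ∈ S, c ∈ comp ι 1 → ∃ k, c = ι k)
variable (hcardmax : ∀ F : Subring (AddMonoid.End W), (∀ a ∈ F, ∀ b ∈ F, a * b = b * a) →
  (∀ a ∈ F, a ∈ S) → Nat.card F ≤ Fintype.card K)
variable {σ : RingAut K} {y y' : AddMonoid.End W} (hσ : σ * σ ≠ 1) (hy0 : y ≠ 0)
  (hy : y ∈ comp ι σ) (hy' : y' ∈ comp ι σ⁻¹) (hpair : ∀ c, ι c * y + ι (σ.symm c) * y' ∈ S)

include hS hι hmax hσ hy hy' hpair in
/-- The two mixed products of a pair are scalars. -/
theorem exists_isPair (hy0 : y ≠ 0) : ∃ μ, IsPair ι σ y y' μ := by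
  classical
  have hσ1 : σ ≠ 1 := fun e => hσ (by rw [e, one_mul])
  have key : ∀ c, ∃ k, ι (c * c) * (y * y') + ι (σ.symm c * σ.symm c) * (y' * y) = ι k := by
    intro c
    obtain ⟨z, hz⟩ : ∃ z, z = ι c * y + ι (σ.symm c) * y' := ⟨_, rfl⟩
    have hzS : z * z ∈ S := by simpa [pow_two] using pow_mem hS (hz ▸ hpair c) 2
    obtain ⟨k, hk⟩ := hmax _ (proj_mem_of_sq hS ι hι (σ := 1) (one_mul 1) hzS) (proj_mem ι 1 _)
    refine ⟨k, ?_⟩
    have e : z * z = ι (c * σ c) * (y * y) + ι (c * c) * (y * y') +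
        (ι (σ.symm c * σ.symm c) * (y' * y) + ι (σ.symm c * σ⁻¹ (σ.symm c)) * (y' * y')) := by
      have e1 : ∀ a, y * ι a = ι (σ a) * y := hy
      have e2 : ∀ a, y' * ι a = ι (σ⁻¹ a) * y' := hy'
      have e3 : σ⁻¹ c = σ.symm c := rfl
      have e4 : σ (σ.symm c) = c := σ.apply_symm_apply c
      rw [hz, add_mul, mul_add, mul_add, mul_assoc (ι c) y, mul_assoc (ι c) y, ← mul_assoc y, e1,
        ← mul_assoc y, e1, mul_assoc (ι (σ.symm c)) y', mul_assoc (ι (σ.symm c)) y', ← mul_assoc y', e2,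
        ← mul_assoc y', e2, e3, e4]
      simp only [map_mul, mul_assoc]
    rw [← hk, e, map_add, map_add, map_add,
      proj_of_comp ι (smul_comp ι _ (mul_comp ι hy hy)), if_neg hσ,
      proj_of_comp ι (smul_comp ι _ (mul_comp ι hy hy')), if_pos (mul_inv_cancel σ),
      proj_of_comp ι (smul_comp ι _ (mul_comp ι hy' hy)), if_pos (inv_mul_cancel σ),
      proj_of_comp ι (smul_comp ι _ (mul_comp ι hy' hy')),
      if_neg (by rw [← mul_inv_rev, inv_eq_one]; exact hσ), zero_add, add_zero]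
  obtain ⟨c, hc⟩ : ∃ c, σ.symm c * σ.symm c ≠ c * c := by
    refine ⟨σ (gen K), fun e => ?_⟩
    rw [RingEquiv.symm_apply_apply, eq_comm, mul_self_eq_mul_self_iff] at e
    rcases e with e | e
    · exact hσ1 (ringAut_eq_of_gen e)
    · refine hσ (ringAut_eq_of_gen ?_)
      show σ (σ (gen K)) = gen K
      rw [e, map_neg, e, neg_neg]
  obtain ⟨k₁, h₁⟩ := key 1
  obtain ⟨k₂, h₂⟩ := key c
  rw [one_mul, map_one, one_mul, map_one, one_mul, map_one, one_mul] at h₁
  obtain ⟨ν, hν⟩ : ∃ ν, y' * y = ι ν := by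
    refine ⟨(σ.symm c * σ.symm c - c * c)⁻¹ * (k₂ - c * c * k₁), ?_⟩
    have e : ι (σ.symm c * σ.symm c - c * c) * (y' * y) = ι (k₂ - c * c * k₁) := by
      rw [map_sub, map_sub, map_mul ι (c * c) k₁, ← h₁, ← h₂, sub_mul, mul_add]
      abel
    rw [map_mul, ← e, ← mul_assoc, ← map_mul, inv_mul_cancel₀ (sub_ne_zero.mpr hc), map_one, one_mul]
  refine ⟨σ ν, hy, hy', ?_, by rw [hν, RingEquiv.symm_apply_apply]⟩
  have hA : y * y' = ι (k₁ - ν) := by rw [map_sub, ← hν, ← h₁]; abel
  have e : ι (k₁ - ν) * y = ι (σ ν) * y := by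
    rw [← hA, mul_assoc, hν, hy]
  rw [← sub_eq_zero, ← sub_mul, ← map_sub] at e
  rw [hA, sub_eq_zero.mp ((scalar_mul_eq_zero ι e).resolve_right hy0)]

include hS hι hmax hσ hy0 hy hy' hpair in
/-- A pair forces `σ` of order three and gives a plane. -/
theorem exists_plane : σ ^ 3 = 1 ∧ ∃ (M : AddSubgroup W) (v : W), v ≠ 0 ∧ v ∈ M ∧
    (∀ k, ∀ w ∈ M, ι k w ∈ M) ∧ (∀ w ∈ M, y w ∈ M) ∧ (∀ w ∈ M, y' w ∈ M) ∧
    Nat.card M = Fintype.card K ^ 2 ∧
    ∀ z ∈ S, z v ∈ M → ∃ a c, z = ι a + (ι c * y + ι (σ.symm c) * y') := by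
  classical
  haveI := nontrivial_end (W := W)
  haveI : Finite (AddMonoid.End W) := finite_end
  obtain ⟨μ, hP⟩ := exists_isPair hS hι hmax hσ hy hy' hpair hy0
  have hxS : y + y' ∈ S := by
    have := hpair 1
    rwa [map_one, map_one, map_one, one_mul, one_mul] at this
  have hσ1 : σ ≠ 1 := fun e => hσ (by rw [e, one_mul])
  have hσne : σ ≠ σ⁻¹ := fun e => hσ (mul_eq_one_iff_eq_inv.mpr e)
  have hK : 1 < Fintype.card K := Fintype.one_lt_card
  -- evaluation is bijective
  have hev : ∀ v : W, v ≠ 0 → Function.Injective fun s : S => (s : AddMonoid.End W) v := by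
    intro v hv s t hst
    by_contra hne
    have h1 : ((s : AddMonoid.End W) - t) v = 0 := by
      show (s : AddMonoid.End W) v - (t : AddMonoid.End W) v = 0
      exact sub_eq_zero.mpr hst
    exact hv (hS.inj _ (S.sub_mem s.2 t.2) (sub_ne_zero.mpr fun e => hne (Subtype.ext e)) v h1)
  have hbd : ∀ (M : AddSubgroup W) (v : W), v ≠ 0 → ∀ (α : Type u) [Finite α] (f : α → AddMonoid.End W),
      Function.Injective f → (∀ a, f a ∈ S) → (∀ a, f a v ∈ M) → Nat.card α ≤ Nat.card M := by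
    intro M v hv α _ f hf hfS hfM
    refine Nat.card_le_card_of_injective (fun a => (⟨f a v, hfM a⟩ : M)) fun a b hab => ?_
    have := hev v hv (a₁ := ⟨f a, hfS a⟩) (a₂ := ⟨f b, hfS b⟩) (congrArg Subtype.val hab)
    exact hf (congrArg Subtype.val this)
  obtain ⟨f₂, hf₂⟩ : ∃ f : K × K → AddMonoid.End W,
      ∀ p, f p = ι p.1 + (ι p.2 * y + ι (σ.symm p.2) * y') := ⟨_, fun _ => rfl⟩
  have hproj1 : ∀ p, proj ι 1 (f₂ p) = ι p.1 ∧ proj ι σ (f₂ p) = ι p.2 * y := fun p => by
    rw [hf₂, map_add, map_add, map_add, map_add, proj_of_comp ι (scalar_comp ι p.1),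
      proj_of_comp ι (smul_comp ι p.2 hy), proj_of_comp ι (smul_comp ι _ hy'),
      proj_of_comp ι (scalar_comp ι p.1), proj_of_comp ι (smul_comp ι p.2 hy),
      proj_of_comp ι (smul_comp ι _ hy')]
    simp [hσ1, Ne.symm hσ1, inv_eq_one, hσne.symm]
  have hycancel : ∀ a b : K, ι a * y = ι b * y → a = b := fun a b e => by
    rw [← sub_eq_zero, ← sub_mul, ← map_sub] at e
    exact sub_eq_zero.mp ((scalar_mul_eq_zero ι e).resolve_right hy0)
  have hinj₂ : Function.Injective f₂ := fun p q e => by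
    have h1 := congrArg (proj ι 1) e
    have h2 := congrArg (proj ι σ) e
    rw [(hproj1 p).1, (hproj1 q).1] at h1
    rw [(hproj1 p).2, (hproj1 q).2] at h2
    exact Prod.ext (ι.injective h1) (hycancel _ _ h2)
  have hf₂S : ∀ p, f₂ p ∈ S := fun p => hf₂ p ▸ S.add_mem (hι _) (hpair _)
  have hlow : ∀ (M : AddSubgroup W) (v : W), v ≠ 0 → v ∈ M → (∀ k, ∀ w ∈ M, ι k w ∈ M) →
      (∀ w ∈ M, y w ∈ M) → (∀ w ∈ M, y' w ∈ M) → ∀ p, f₂ p v ∈ M := by
    intro M v _ hvM hMK hMy hMy' p
    rw [hf₂]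
    exact M.add_mem (hMK _ _ hvM) (M.add_mem (hMK _ _ (hMy _ hvM)) (hMK _ _ (hMy' _ hvM)))
  have hxx : (y + y') * (y + y') = y * y + y' * y' + (ι μ + ι (σ.symm μ)) := by
    rw [← hP.mul_right', ← hP.mul_left', add_mul, mul_add, mul_add]; abel
  have hσσ1 : σ * σ ≠ σ := fun e => hσ1 (mul_left_cancel (e.trans (mul_one σ).symm))
  by_cases h4 : σ ^ 4 = 1
  · exfalso
    have hinv : (σ * σ) * (σ * σ) = 1 := by rw [← h4]; simp [pow_succ, mul_assoc]
    have hinv' : σ⁻¹ * σ⁻¹ = σ * σ := by rw [← mul_inv_rev, inv_eq_of_mul_eq_one_right hinv]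
    have hz : y * y + y' * y' = 0 := by
      refine comp_involution_eq_zero hS ι hι hinv hσ ?_ (add_mem (mul_comp ι hy hy) (hinv' ▸ mul_comp ι hy' hy'))
      have h := proj_mem_of_sq hS ι hι hinv (pow_mem hS hxS 2)
      rw [pow_two, hxx, map_add, map_add, map_add, proj_of_comp ι (mul_comp ι hy hy), if_pos rfl,
        proj_of_comp ι (mul_comp ι hy' hy'), if_pos hinv', proj_of_comp ι (scalar_comp ι μ),
        if_neg (Ne.symm hσ), proj_of_comp ι (scalar_comp ι _), if_neg (Ne.symm hσ), add_zero,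
        add_zero] at h
      exact h
    have hy4 : y ^ 4 = ι (-(σ μ * μ)) := by
      have e1 : y * y * (y' * y') = ι (σ μ * μ) := by
        rw [mul_assoc, ← mul_assoc y y' y', hP.mul_right', ← mul_assoc, hy, mul_assoc, hP.mul_right', map_mul]
      have e2 : y * y = -(y' * y') := eq_neg_of_add_eq_zero_left hz
      calc y ^ 4 = y * y * (y * y) := by simp [pow_succ, mul_assoc]
        _ = y * y * -(y' * y') := by rw [← e2]
        _ = _ := by rw [mul_neg, e1, map_neg]
    have hμ : μ ≠ 0 := fun e => by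
      have hy'4 : y' ^ 4 = y ^ 4 := by
        have e2 : y' * y' = -(y * y) := eq_neg_of_add_eq_zero_right hz
        calc y' ^ 4 = y' * y' * (y' * y') := by simp [pow_succ, mul_assoc]
          _ = _ := by rw [e2, neg_mul_neg]; simp [pow_succ, mul_assoc]
      have h0 : (y + y') ^ 4 = 0 := by
        rw [hP.pow_eq_of_zero e 3, hy'4, hy4, e]; simp
      have hx := eq_zero_of_pow hS hxS 4 h0
      have h1 := congrArg (proj ι σ) hx
      rw [map_add, map_zero, proj_of_comp ι hy, if_pos rfl, proj_of_comp ι hy', if_neg hσne.symm,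
        add_zero] at h1
      exact hy0 h1
    obtain ⟨v₀, hv₀⟩ := exists_ne (0 : W)
    have hord : orderOf σ = 4 := orderOf_eq_prime_pow (p := 2) (n := 1)
      (by simpa [pow_two] using hσ) h4
    obtain ⟨r, hr⟩ : ∃ r, r = -(σ μ * μ) := ⟨_, rfl⟩
    rw [← hr] at hy4
    have hr0 : r ≠ 0 := by rw [hr]; exact neg_ne_zero.mpr (mul_ne_zero (by simpa using hμ) hμ)
    have hrf : σ r = r := hycancel _ _ (by rw [← hy, ← hy4, ← pow_succ', ← pow_succ])
    obtain ⟨M, hM0, hMK, hMy, hMy', hMc⟩ := hP.exists_line hv₀ hr0 hrf (by rw [hord, hy4])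
    obtain ⟨v, hvM, hv⟩ := (AddSubgroup.bot_or_exists_ne_zero M).resolve_left hM0
    have h := hbd M v hv (K × K) f₂ hinj₂ hf₂S (hlow M v hv hvM hMK hMy hMy')
    rw [Nat.card_prod, Nat.card_eq_fintype_card] at h
    nlinarith
  obtain ⟨M, hM0, hMK, hMy, hMy', hMc⟩ := hP.exists_small hS hι hxS hmax hσ hy0
  obtain ⟨v, hvM, hv⟩ := (AddSubgroup.bot_or_exists_ne_zero M).resolve_left hM0
  have hMcard : Nat.card M = Fintype.card K ^ 2 := by
    refine le_antisymm hMc ?_
    have h := hbd M v hv (K × K) f₂ hinj₂ hf₂S (hlow M v hv hvM hMK hMy hMy')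
    rwa [Nat.card_prod, Nat.card_eq_fintype_card, ← pow_two] at h
  refine ⟨?_, M, v, hv, hvM, hMK, hMy, hMy', hMcard, ?_⟩
  · by_contra h3
    have hσ2σi : σ * σ ≠ σ⁻¹ := fun e => h3 (by
      rw [pow_succ, pow_two, e, inv_mul_cancel])
    have hσσσ : (σ * σ) * (σ * σ) ≠ 1 := fun e => h4 (by rw [← e]; simp [pow_succ, mul_assoc])
    have hne : σ⁻¹ * σ⁻¹ ≠ σ * σ := fun e => hσσσ (by
      nth_rw 2 [← e]; group)
    have hne2 : σ⁻¹ * σ⁻¹ ≠ σ := fun e => hσ2σi (by
      rw [← mul_inv_rev] at e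
      exact inv_eq_iff_eq_inv.mp e)
    have hne3 : σ⁻¹ * σ⁻¹ ≠ 1 := by rw [← mul_inv_rev, inv_ne_one]; exact hσ
    have hnz : ¬ (y * y = 0 ∧ y' * y' = 0) := by
      rintro ⟨h1, h2⟩
      by_cases hμ : μ = 0
      · have hx := eq_zero_of_pow hS hxS 2 (by rw [pow_two, hxx, h1, h2, hμ]; simp)
        have h3 := congrArg (proj ι σ) hx
        rw [map_add, map_zero, proj_of_comp ι hy, if_pos rfl, proj_of_comp ι hy', if_neg hσne.symm,
          add_zero] at h3
        exact hy0 h3
      · obtain ⟨κ, hκ, hκ0, -⟩ := hP.pow_mul_pow 2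
        rw [pow_two y, h1, mul_zero, eq_comm, ← mul_one (ι κ)] at hκ
        exact hκ0 hμ ((scalar_mul_eq_zero ι hκ).resolve_right one_ne_zero)
    have hp2 : ∀ d, ι d * (y * y) + ι ((σ * σ).symm d) * (y' * y') ∈ S := by
      intro d
      have h := pair_mem hS ι hι hσσσ (pow_mem hS hxS 2) d
      rw [pow_two, hxx, map_add, map_add, map_add, map_add, map_add, map_add,
        proj_of_comp ι (mul_comp ι hy hy), proj_of_comp ι (mul_comp ι hy hy),
        proj_of_comp ι (mul_comp ι hy' hy'), proj_of_comp ι (mul_comp ι hy' hy'),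
        proj_of_comp ι (scalar_comp ι μ), proj_of_comp ι (scalar_comp ι μ),
        proj_of_comp ι (scalar_comp ι (σ.symm μ)), proj_of_comp ι (scalar_comp ι (σ.symm μ))] at h
      have hinvσ : (σ * σ)⁻¹ = σ⁻¹ * σ⁻¹ := mul_inv_rev σ σ
      simp only [hinvσ, if_pos trivial, if_neg hne, if_neg (Ne.symm hne), if_neg (Ne.symm hσ),
        if_neg (Ne.symm hne3), if_true, add_zero, zero_add] at h
      exact h
    obtain ⟨f₃, hf₃⟩ : ∃ f : (K × K) × K → AddMonoid.End W,
        ∀ q, f q = f₂ q.1 + (ι q.2 * (y * y) + ι ((σ * σ).symm q.2) * (y' * y')) := ⟨_, fun _ => rfl⟩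
    have hinj₃ : Function.Injective f₃ := fun p q e => by
      rw [hf₃, hf₃] at e
      have h1 := congrArg (proj ι (σ * σ)) e
      have h2 := congrArg (proj ι (σ⁻¹ * σ⁻¹)) e
      have hz : ∀ (p : K × K) (τ : RingAut K), τ ≠ 1 → τ ≠ σ → τ ≠ σ⁻¹ → proj ι τ (f₂ p) = 0 := by
        intro p τ a b c
        rw [hf₂, map_add, map_add, proj_of_comp ι (scalar_comp ι p.1),
          proj_of_comp ι (smul_comp ι p.2 hy), proj_of_comp ι (smul_comp ι _ hy')]
        simp [Ne.symm a, Ne.symm b, Ne.symm c]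
      have hσ'σ' : σ⁻¹ * σ⁻¹ ≠ σ⁻¹ := fun e => hσ1 (inv_eq_one.mp (mul_left_cancel (e.trans (mul_one σ⁻¹).symm)))
      rw [map_add, map_add, map_add, map_add, hz _ _ hσ hσσ1 hσ2σi, hz _ _ hσ hσσ1 hσ2σi,
        proj_of_comp ι (smul_comp ι _ (mul_comp ι hy hy)), if_pos rfl,
        proj_of_comp ι (smul_comp ι _ (mul_comp ι hy hy)), if_pos rfl,
        proj_of_comp ι (smul_comp ι _ (mul_comp ι hy' hy')), if_neg hne,
        proj_of_comp ι (smul_comp ι _ (mul_comp ι hy' hy')), if_neg hne] at h1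
      rw [map_add, map_add, map_add, map_add, hz _ _ hne3 hne2 hσ'σ', hz _ _ hne3 hne2 hσ'σ',
        proj_of_comp ι (smul_comp ι _ (mul_comp ι hy hy)), if_neg (Ne.symm hne),
        proj_of_comp ι (smul_comp ι _ (mul_comp ι hy hy)), if_neg (Ne.symm hne),
        proj_of_comp ι (smul_comp ι _ (mul_comp ι hy' hy')), if_pos rfl,
        proj_of_comp ι (smul_comp ι _ (mul_comp ι hy' hy')), if_pos rfl] at h2
      simp only [zero_add, add_zero] at h1 h2
      rw [← sub_eq_zero, ← sub_mul, ← map_sub] at h1 h2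
      have hq : p.2 = q.2 := by
        by_contra hne'
        exact hnz ⟨(scalar_mul_eq_zero ι h1).resolve_left (sub_ne_zero.mpr hne'),
          (scalar_mul_eq_zero ι h2).resolve_left (sub_ne_zero.mpr fun e => hne' ((σ * σ).symm.injective e))⟩
      rw [hq] at e
      exact Prod.ext (hinj₂ (add_right_cancel e)) hq
    have h := hbd M v hv ((K × K) × K) f₃ hinj₃ (fun q => hf₃ q ▸ S.add_mem (hf₂S _) (hp2 _))
      (fun q => by
        rw [hf₃]
        exact M.add_mem (hlow M v hv hvM hMK hMy hMy' _)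
          (M.add_mem (hMK _ _ (hMy _ (hMy _ hvM))) (hMK _ _ (hMy' _ (hMy' _ hvM)))))
    rw [Nat.card_prod, Nat.card_prod, Nat.card_eq_fintype_card, hMcard, pow_two] at h
    nlinarith [Nat.mul_pos (zero_lt_one.trans hK) (zero_lt_one.trans hK)]
  · intro z hz hzv
    by_contra hne
    push Not at hne
    have h := hbd M v hv (Option (K × K)) (fun o => o.elim z f₂) (fun a b e => by
        cases a with
        | none =>
          cases b with
          | none => rfl
          | some q => exact absurd (e.trans (hf₂ q)) (hne q.1 q.2)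
        | some p =>
          cases b with
          | none => exact absurd (e.symm.trans (hf₂ p)) (hne p.1 p.2)
          | some q => exact congrArg some (hinj₂ e))
      (fun o => by cases o <;> simp [hz, hf₂S])
      (fun o => by
        cases o with
        | none => exact hzv
        | some p => exact hlow M v hv hvM hMK hMy hMy' p)
    rw [Finite.card_option, Nat.card_prod, Nat.card_eq_fintype_card, hMcard, pow_two] at h
    omega

include hS hι hmax hcardmax hσ hy0 hy hy' hpair in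
/-- There is no pair. -/
theorem no_pair : False := by
  classical
  haveI := nontrivial_end (W := W)
  haveI : Finite (AddMonoid.End W) := finite_end
  obtain ⟨h3, M, v, hv, hvM, hMK, hMy, hMy', hMc, hU⟩ :=
    exists_plane hS hι hmax hσ hy0 hy hy' hpair
  have hσ1 : σ ≠ 1 := fun e => hσ (by rw [e, one_mul])
  obtain ⟨K₀, hK₀⟩ : ∃ K₀, K₀ = FixedPoints.subfield (Subgroup.zpowers σ) K := ⟨_, rfl⟩
  obtain ⟨Q, hQ⟩ : ∃ Q, Q = Nat.card K₀ := ⟨_, rfl⟩
  have hQ1 : 1 < Q := hQ ▸ Finite.one_lt_card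
  have hKQ : Fintype.card K = Q ^ 3 := by
    rw [← Nat.card_eq_fintype_card, card_fixed_pow σ, orderOf_eq_prime h3 hσ1, hQ, hK₀]
  have hMQ : Nat.card M = Q ^ 6 := by rw [hMc, hKQ, ← pow_mul]
  obtain ⟨U, hUdef⟩ : ∃ U : AddSubgroup (AddMonoid.End W), ∀ z, z ∈ U ↔ z ∈ S ∧ z v ∈ M :=
    ⟨S ⊓ M.comap (AddMonoidHom.eval v), fun z => Iff.rfl⟩
  have hUcard : Nat.card U = Q ^ 6 := by
    refine le_antisymm ?_ ?_
    · rw [← hMQ]
      refine Nat.card_le_card_of_injective (fun z : U => (⟨(z : AddMonoid.End W) v, ((hUdef _).mp z.2).2⟩ : M))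
        fun a b e => ?_
      by_contra hne
      refine hv (hS.inj _ (S.sub_mem ((hUdef _).mp a.2).1 ((hUdef _).mp b.2).1)
        (sub_ne_zero.mpr fun e => hne (Subtype.ext e)) v ?_)
      show (a : AddMonoid.End W) v - (b : AddMonoid.End W) v = 0
      exact sub_eq_zero.mpr (congrArg Subtype.val e)
    · have hxmem : ∀ p : K × K, ι p.1 + (ι p.2 * y + ι (σ.symm p.2) * y') ∈ U := fun p =>
        (hUdef _).mpr ⟨S.add_mem (hι _) (hpair _),
          M.add_mem (hMK _ _ hvM) (M.add_mem (hMK _ _ (hMy _ hvM)) (hMK _ _ (hMy' _ hvM)))⟩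
      have e : Q ^ 6 = Nat.card (K × K) := by
        rw [Nat.card_prod, Nat.card_eq_fintype_card, hKQ, ← pow_add]
      rw [e]
      refine Nat.card_le_card_of_injective (fun p => (⟨_, hxmem p⟩ : U)) fun p q e => ?_
      have e' := congrArg Subtype.val e
      dsimp only at e'
      have h1 := congrArg (proj ι 1) e'
      have h2 := congrArg (proj ι σ) e'
      have hσne : σ ≠ σ⁻¹ := fun e => hσ (mul_eq_one_iff_eq_inv.mpr e)
      simp only [map_add, proj_of_comp ι (scalar_comp ι _), proj_of_comp ι (smul_comp ι _ hy),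
        proj_of_comp ι (smul_comp ι _ hy')] at h1 h2
      simp [hσ1, Ne.symm hσ1, inv_eq_one, hσne.symm] at h1 h2
      rw [← sub_eq_zero, ← sub_mul, ← map_sub] at h2
      exact Prod.ext (ι.injective h1) (sub_eq_zero.mp ((scalar_mul_eq_zero ι h2).resolve_right hy0))
  have hUM : ∀ z ∈ U, ∀ w ∈ M, z w ∈ M := fun z hz w hw => by
    obtain ⟨a, c, rfl⟩ := hU z ((hUdef z).mp hz).1 ((hUdef z).mp hz).2
    exact M.add_mem (hMK _ _ hw) (M.add_mem (hMK _ _ (hMy _ hw)) (hMK _ _ (hMy' _ hw)))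
  have hK₀σ : ∀ k : K₀, σ (k : K) = k := fun k => (fixed_mem σ _).mp (hK₀ ▸ k.2)
  have hcomm : ∀ z ∈ U, ∀ k : K₀, Commute (ι k) z := by
    intro z hz k
    obtain ⟨a, c, rfl⟩ := hU z ((hUdef z).mp hz).1 ((hUdef z).mp hz).2
    have hc : ∀ b, Commute (ι k) (ι b) := fun b => by
      show _ * _ = _ * _; rw [← map_mul, ← map_mul, mul_comm]
    have h1 : Commute (ι k) y := by
      show _ = y * _; rw [hy, hK₀σ]
    have h2 : Commute (ι k) y' := by
      show _ = y' * _
      rw [hy', show σ⁻¹ (k : K) = σ.symm k from rfl, σ.symm_apply_eq.mpr (hK₀σ k).symm]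
    exact (hc a).add_right (((hc c).mul_right h1).add_right ((hc _).mul_right h2))
  have hK₀U : ∀ (k : K₀), ∀ z ∈ U, ι k * z ∈ U := by
    intro k z hz
    obtain ⟨a, c, rfl⟩ := hU z ((hUdef z).mp hz).1 ((hUdef z).mp hz).2
    have e : ι (k : K) * (ι a + (ι c * y + ι (σ.symm c) * y')) =
        ι (k * a) + (ι (k * c) * y + ι (σ.symm (k * c)) * y') := by
      rw [map_mul σ.symm, σ.symm_apply_eq.mpr (hK₀σ k).symm, map_mul, map_mul, map_mul, mul_add,
        mul_add, mul_assoc, mul_assoc]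
    refine (hUdef _).mpr ⟨e ▸ S.add_mem (hι _) (hpair _), ?_⟩
    exact hMK _ _ (hUM _ hz v hvM)
  have hpowU : ∀ z ∈ U, ∀ n : ℕ, z ^ n ∈ U := fun z hz n => (hUdef _).mpr
    ⟨pow_mem hS ((hUdef z).mp hz).1 n, by
      induction n with
      | zero => exact hvM
      | succ n ih => rw [pow_succ']; exact hUM z hz _ ih⟩
  obtain ⟨B, hB⟩ : ∃ B : AddMonoid.End W → Subring (AddMonoid.End W),
      ∀ x, B x = Subring.closure (Set.range (fun k : K₀ => ι k) ∪ {x}) := ⟨_, fun _ => rfl⟩
  have hBmem : ∀ x, x ∈ B x ∧ ∀ k : K₀, ι k ∈ B x := fun x => by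
    rw [hB]
    exact ⟨Subring.subset_closure (Or.inr rfl), fun k => Subring.subset_closure (Or.inl ⟨k, rfl⟩)⟩
  have hBU : ∀ x ∈ U, (∀ a ∈ B x, a ∈ U) ∧ ∀ a ∈ B x, ∀ b ∈ B x, a * b = b * a := by
    intro x hx
    obtain ⟨f, hf⟩ : ∃ f, f = eval₂RingHom' (ι.comp K₀.subtype) x (hcomm x hx) := ⟨_, rfl⟩
    have hle : B x ≤ f.range := by
      rw [hB, Subring.closure_le]
      rintro z (⟨k, rfl⟩ | rfl)
      · exact ⟨C k, by rw [hf]; exact eval₂_C _ _⟩
      · exact ⟨X, by rw [hf]; exact eval₂_X _ _⟩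
    refine ⟨fun a ha => ?_, fun a ha b hb => ?_⟩
    · obtain ⟨g, rfl⟩ := hle ha
      clear ha
      induction g using Polynomial.induction_on' with
      | add p q hp hq =>
        rw [map_add]
        exact U.add_mem hp hq
      | monomial n k =>
        have e : f (monomial n k) = ι k * x ^ n := by rw [hf]; exact eval₂_monomial _ _
        rw [e]
        exact hK₀U k _ (hpowU x hx n)
    · obtain ⟨g, rfl⟩ := hle ha
      obtain ⟨g', rfl⟩ := hle hb
      rw [← map_mul, ← map_mul, mul_comm]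
  -- every element outside the fixed field generates a cubic field
  have hBcard : ∀ x ∈ U, (∀ k : K₀, x ≠ ι k) → Nat.card (B x) = Q ^ 3 := by
    intro x hx hxK
    obtain ⟨hBsub, hBc⟩ := hBU x hx
    have hBS : ∀ a ∈ B x, a ∈ S := fun a ha => ((hUdef a).mp (hBsub a ha)).1
    obtain ⟨L, iL, fL, j, hj⟩ := exists_field_of_sub hS (B x) hBc hBS
    have hjB : ∀ l, j l ∈ B x := fun l => hj ▸ ⟨l, rfl⟩
    have hLB : Nat.card L = Nat.card (B x) := by
      rw [← hj]
      exact Nat.card_eq_of_bijective j.rangeRestrict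
        ⟨fun a b e => j.injective (congrArg Subtype.val e), j.rangeRestrict_surjective⟩
    rw [← hLB]
    have hlift : ∀ k : K₀, ∃ l, j l = ι k := fun k => by
      have : ι (k : K) ∈ j.range := hj ▸ (hBmem x).2 k
      exact this
    choose i₀ hi₀ using hlift
    let ih : K₀ →+* L :=
      { toFun := i₀
        map_one' := j.injective (by rw [hi₀]; simp)
        map_mul' := fun a b => j.injective (by rw [hi₀, map_mul, hi₀, hi₀, ← map_mul]; rfl)
        map_zero' := j.injective (by rw [hi₀]; simp)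
        map_add' := fun a b => j.injective (by rw [hi₀, map_add, hi₀, hi₀, ← map_add]; rfl) }
    letI : Algebra K₀ L := ih.toAlgebra
    obtain ⟨d, hd⟩ := card_eq_pow K₀ L
    rw [← hQ] at hd
    let jM : L →+* AddMonoid.End M :=
      { toFun := fun l =>
          { toFun := fun w => ⟨j l w, hUM _ (hBsub _ (hjB l)) _ w.2⟩
            map_zero' := Subtype.ext (map_zero (j l))
            map_add' := fun a b => Subtype.ext (map_add (j l) _ _) }
        map_one' := AddMonoidHom.ext fun w => Subtype.ext (by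
          show j 1 (w : W) = w
          rw [map_one]; rfl)
        map_mul' := fun a b => AddMonoidHom.ext fun w => Subtype.ext (by
          show j (a * b) (w : W) = j a (j b (w : W))
          rw [map_mul]; rfl)
        map_zero' := AddMonoidHom.ext fun w => Subtype.ext (by
          show j 0 (w : W) = 0
          rw [map_zero]; rfl)
        map_add' := fun a b => AddMonoidHom.ext fun w => Subtype.ext (by
          show j (a + b) (w : W) = j a (w : W) + j b (w : W)
          rw [map_add]; rfl) }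
    letI : Module L M := Module.compHom M jM
    obtain ⟨e, he⟩ := card_eq_pow L M
    rw [hMQ, hd, ← pow_mul] at he
    have hde : 6 = d * e := Nat.pow_right_injective hQ1 he
    have hd3 : d ≤ 3 := by
      have h := hcardmax (B x) hBc hBS
      rw [← hLB, hd, hKQ] at h
      exact (Nat.pow_le_pow_iff_right hQ1).mp h
    have hd1 : d ≠ 1 := by
      intro e1
      rw [e1, pow_one, hQ] at hd
      have hbij : Function.Bijective ih :=
        (Nat.bijective_iff_injective_and_card ih).mpr ⟨ih.injective, hd.symm⟩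
      obtain ⟨l, hl⟩ : x ∈ j.range := hj.symm ▸ (hBmem x).1
      obtain ⟨k, hk⟩ := hbij.2 l
      exact hxK k (by rw [← hl, ← hk]; exact hi₀ k)
    have hd0 : d ≠ 0 := fun e0 => by rw [e0, zero_mul] at hde; omega
    have hd2 : d ≠ 2 := by
      intro e2
      rw [e2] at hd
      letI : Fintype L := fL
      haveI : Finite (RingAut L) :=
        Finite.of_injective (fun g : RingAut L => (g : L → L)) DFunLike.coe_injective
      letI := Fintype.ofFinite (RingAut L)
      have hjS : ∀ l, j l ∈ S := fun l => hBS _ (hjB l)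
      have hkey : ∀ z ∈ U, z ∈ comp j 1 := by
        intro z hz
        have hP : ∀ τ : RingAut L, τ ≠ 1 → proj j τ z = 0 := by
          intro τ hτ
          by_contra hP0
          have hτk : ∀ k, τ (i₀ k) = i₀ k := by
            intro k
            have h1 := proj_mem j τ z (i₀ k)
            have h2 : Commute (ι (k : K)) (proj j τ z) := by
              refine Commute.sum_right _ _ _ fun i _ => ?_
              exact (Commute.mul_right (hBc _ ((hBmem x).2 k) _ (hjB _)) (hcomm z hz k)).mul_right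
                (hBc _ ((hBmem x).2 k) _ (hjB _))
            rw [← hi₀ k] at h2
            rw [← h2.eq, ← sub_eq_zero, ← sub_mul, ← map_sub] at h1
            exact (sub_eq_zero.mp ((scalar_mul_eq_zero j h1).resolve_right hP0)).symm
          have hfix : Q ≤ Nat.card (FixedPoints.subfield (Subgroup.zpowers τ) L) := by
            rw [hQ]
            exact Nat.card_le_card_of_injective
              (fun k => (⟨i₀ k, (fixed_mem τ _).mpr (hτk k)⟩ : FixedPoints.subfield (Subgroup.zpowers τ) L))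
              fun a b e => ih.injective (congrArg Subtype.val e)
          have hord : orderOf τ ≤ 2 := by
            have h := card_fixed_pow τ
            rw [hd] at h
            exact (Nat.pow_le_pow_iff_right hQ1).mp (h ▸ Nat.pow_le_pow_left hfix (orderOf τ))
          have hττ : τ * τ = 1 := by
            have h0 := orderOf_ringAut_pos τ
            have h1 : orderOf τ ≠ 1 := fun e => hτ (orderOf_eq_one_iff.mp e)
            rw [← pow_two, show 2 = orderOf τ by omega, pow_orderOf_eq_one]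
          exact hP0 (comp_involution_eq_zero hS j hjS hττ hτ
            (proj_mem_of_sq hS j hjS hττ ((hUdef z).mp hz).1) (proj_mem j τ z))
        have e : proj j 1 z = z := by
          refine Eq.trans ?_ (sum_proj j z)
          exact (Finset.sum_eq_single 1 (fun τ _ hτ => hP τ hτ) (fun h => absurd (Finset.mem_univ _) h)).symm
        exact e ▸ proj_mem j 1 z
      obtain ⟨lx, hlx⟩ : x ∈ j.range := hj.symm ▸ (hBmem x).1
      have hx1 : x ∈ comp ι 1 := fun k => by
        have h := hkey (ι k) ((hUdef _).mpr ⟨hι k, hMK k v hvM⟩) lx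
        rw [hlx] at h
        show x * ι k = ι ((1 : RingAut K) k) * x
        change ι k * x = j ((1 : RingAut L) lx) * ι k at h
        rw [show (1 : RingAut L) lx = lx from rfl, hlx] at h
        exact h.symm
      obtain ⟨k₁, hk₁⟩ := hmax x (hBS _ (hBmem x).1) hx1
      have hle : B x ≤ ι.range := by
        rw [hB, Subring.closure_le]
        rintro z (⟨k, rfl⟩ | rfl)
        · exact ⟨_, rfl⟩
        · exact ⟨k₁, hk₁.symm⟩
      have hlk : ∀ l, ∃ k, ι k = j l := fun l => hle (hjB l)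
      choose g hg using hlk
      let gh : L →+* K :=
        { toFun := g
          map_one' := ι.injective (by rw [hg, map_one, map_one])
          map_mul' := fun a b => ι.injective (by rw [hg, map_mul, map_mul, hg, hg])
          map_zero' := ι.injective (by rw [hg, map_zero, map_zero])
          map_add' := fun a b => ι.injective (by rw [hg, map_add, map_add, hg, hg]) }
      letI : Algebra L K := gh.toAlgebra
      obtain ⟨e', he'⟩ := card_eq_pow L K
      rw [Nat.card_eq_fintype_card (α := K), hKQ, hd, ← pow_mul] at he'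
      have := Nat.pow_right_injective hQ1 he'
      omega
    have : d = 3 := by
      have : d ∣ 6 := ⟨e, hde⟩
      omega
    rw [this] at hd
    exact hd
  -- counting
  letI := Fintype.ofFinite (AddMonoid.End W)
  obtain ⟨I, hI⟩ : ∃ I : Finset (AddMonoid.End W), I = Finset.univ.image (fun k : K₀ => ι (k : K)) :=
    ⟨_, rfl⟩
  have hIcard : I.card = Q := by
    rw [hI, Finset.card_image_of_injective _ fun a b e => Subtype.ext (ι.injective e), Finset.card_univ,
      hQ, Nat.card_eq_fintype_card]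
  obtain ⟨A, hA⟩ : ∃ A : Finset (AddMonoid.End W), A = Finset.univ.filter (fun z => z ∈ U) \ I :=
    ⟨_, rfl⟩
  have h0U : ∀ k : K₀, ι k ∈ U := fun k => (hUdef _).mpr ⟨hι _, hMK _ _ hvM⟩
  have hAcard : A.card = Q ^ 6 - Q := by
    rw [hA, Finset.card_sdiff_of_subset, hIcard, ← Fintype.card_subtype, ← Nat.card_eq_fintype_card]
    · exact congrArg (· - Q) hUcard
    · intro z hz
      rw [hI] at hz
      obtain ⟨k, -, rfl⟩ := Finset.mem_image.mp hz
      simp [h0U]
  have hAmem : ∀ z, z ∈ A ↔ z ∈ U ∧ ∀ k : K₀, z ≠ ι k := fun z => by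
    rw [hA, hI]; simp [eq_comm]
  obtain ⟨N, hN⟩ : ∃ N, A.card = N * (Q ^ 3 - Q) := by
    refine ⟨(A.image B).card, ?_⟩
    rw [Finset.card_eq_sum_card_image B A, Finset.sum_const_nat]
    intro F hF
    obtain ⟨x, hx, rfl⟩ := Finset.mem_image.mp hF
    obtain ⟨hxU, hxK⟩ := (hAmem x).mp hx
    have e : A.filter (fun z => B z = B x) = Finset.univ.filter (fun z => z ∈ B x) \ I := by
      ext z
      simp only [Finset.mem_filter, Finset.mem_sdiff, Finset.mem_univ, true_and, hAmem, hI,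
        Finset.mem_image, not_exists]
      refine ⟨fun h => ⟨h.2 ▸ (hBmem z).1, fun k hk => h.1.2 k hk.symm⟩, fun h => ?_⟩
      have hzU := (hBU x hxU).1 z h.1
      refine ⟨⟨hzU, fun k hk => h.2 k hk.symm⟩, ?_⟩
      have hle : B z ≤ B x := by
        rw [hB z, Subring.closure_le]
        rintro w (⟨k, rfl⟩ | rfl)
        · exact (hBmem x).2 k
        · exact h.1
      refine SetLike.coe_injective (Set.eq_of_subset_of_ncard_le hle ?_)
      rw [← Nat.card_coe_set_eq, ← Nat.card_coe_set_eq]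
      show Nat.card (B x) ≤ Nat.card (B z)
      rw [hBcard x hxU hxK, hBcard z hzU fun k hk => h.2 k hk.symm]
    rw [e, Finset.card_sdiff_of_subset, hIcard, ← Fintype.card_subtype, ← Nat.card_eq_fintype_card]
    · exact congrArg (· - Q) (hBcard x hxU hxK)
    · intro z hz
      rw [hI] at hz
      obtain ⟨k, -, rfl⟩ := Finset.mem_image.mp hz
      simp [(hBmem x).2 k]
  rw [hAcard] at hN
  have h1 : Q < Q ^ 2 := by nlinarith
  have h2 : Q ^ 2 < Q ^ 3 := by nlinarith
  have e6 : Q ^ 6 - Q = (Q ^ 3 - Q) * (Q ^ 3 + Q) + (Q ^ 2 - Q) := by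
    have h6 : Q ≤ Q ^ 6 := Nat.le_self_pow (by norm_num) Q
    zify [h6, h1.le, (h1.trans h2).le]
    ring
  rw [e6, mul_comm N] at hN
  have hdvd : Q ^ 3 - Q ∣ Q ^ 2 - Q :=
    (Nat.dvd_add_right (dvd_mul_right _ _)).mp ⟨N, hN⟩
  have := Nat.le_of_dvd (by omega) hdvd
  omega

end Pair

include hS in
/-- The spread set is a field. -/
theorem exists_field : ∃ (F : Type) (_ : Field F) (_ : Fintype F) (φ : F →+* AddMonoid.End W),
    ∀ z, z ∈ S ↔ ∃ k, φ k = z := by
  classical
  haveI := nontrivial_end (W := W)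
  haveI : Finite (AddMonoid.End W) := finite_end
  haveI : Finite (Subring (AddMonoid.End W)) :=
    Finite.of_injective (fun F : Subring (AddMonoid.End W) => (F : Set (AddMonoid.End W))) SetLike.coe_injective
  have hne : {F : Subring (AddMonoid.End W) |
      (∀ a ∈ F, ∀ b ∈ F, a * b = b * a) ∧ ∀ a ∈ F, a ∈ S}.Nonempty := by
    refine ⟨⊥, fun a ha b hb => ?_, fun a ha => ?_⟩
    · obtain ⟨m, rfl⟩ := Subring.mem_bot.mp ha
      exact (Int.cast_commute m b).eq
    · obtain ⟨m, rfl⟩ := Subring.mem_bot.mp ha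
      rw [← zsmul_one]
      exact S.zsmul_mem hS.one_mem m
  obtain ⟨E, ⟨hEc, hES⟩, hEmax⟩ := (Set.toFinite {F : Subring (AddMonoid.End W) |
      (∀ a ∈ F, ∀ b ∈ F, a * b = b * a) ∧ ∀ a ∈ F, a ∈ S}).exists_maximalFor
    (fun F : Subring (AddMonoid.End W) => Nat.card F) _ hne
  obtain ⟨K, iK, fK, ι, hιE⟩ := exists_field_of_sub hS E hEc hES
  have hι : ∀ k, ι k ∈ S := fun k => hES _ (hιE ▸ ⟨k, rfl⟩)
  have hKE : Nat.card E = Fintype.card K := by
    rw [← hιE, ← Nat.card_eq_fintype_card]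
    exact (Nat.card_eq_of_bijective ι.rangeRestrict
      ⟨fun a b e => ι.injective (congrArg Subtype.val e), ι.rangeRestrict_surjective⟩).symm
  have hcardmax : ∀ F : Subring (AddMonoid.End W), (∀ a ∈ F, ∀ b ∈ F, a * b = b * a) →
      (∀ a ∈ F, a ∈ S) → Nat.card F ≤ Fintype.card K := fun F hF hFS =>
    hKE ▸ (le_total (Nat.card F) (Nat.card E)).elim id (hEmax ⟨hF, hFS⟩)
  have hmax : ∀ c ∈ S, c ∈ comp ι 1 → ∃ k, c = ι k := by
    intro c hc hc1
    obtain ⟨L, iL, fL, j, hjS, hjι, ⟨lc, hlc⟩, -⟩ := exists_adjoin hS ι hι hc hc1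
    have hle : ι.range ≤ j.range := by
      rintro _ ⟨k, rfl⟩
      exact hjι k
    have h1 := hcardmax j.range (fun a ha b hb => by
      obtain ⟨a, rfl⟩ := ha
      obtain ⟨b, rfl⟩ := hb
      rw [← map_mul, ← map_mul, mul_comm]) (fun a ha => by
      obtain ⟨a, rfl⟩ := ha
      exact hjS a)
    rw [← hKE, ← hιE] at h1
    have heq : (ι.range : Set (AddMonoid.End W)) = j.range := by
      refine Set.eq_of_subset_of_ncard_le hle ?_
      rw [← Nat.card_coe_set_eq, ← Nat.card_coe_set_eq]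
      exact h1
    have : c ∈ (ι.range : Set (AddMonoid.End W)) := heq ▸ ⟨lc, hlc⟩
    obtain ⟨k, hk⟩ := this
    exact ⟨k, hk.symm⟩
  have hall : ∀ s ∈ S, ∃ k, ι k = s := by
    intro s hs
    by_contra hne
    push Not at hne
    haveI : Finite (RingAut K) :=
      Finite.of_injective (fun g : RingAut K => (g : K → K)) DFunLike.coe_injective
    letI := Fintype.ofFinite (RingAut K)
    obtain ⟨σ, hσ1, hy0⟩ : ∃ σ : RingAut K, σ ≠ 1 ∧ proj ι σ s ≠ 0 := by
      by_contra! hz
      have e : proj ι 1 s = s := by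
        refine Eq.trans ?_ (sum_proj ι s)
        exact (Finset.sum_eq_single 1 (fun τ _ hτ => hz τ hτ) (fun h => absurd (Finset.mem_univ _) h)).symm
      obtain ⟨k, hk⟩ := hmax s hs (e ▸ proj_mem ι 1 s)
      exact hne k hk.symm
    by_cases hσ : σ * σ = 1
    · exact hy0 (comp_involution_eq_zero hS ι hι hσ hσ1 (proj_mem_of_sq hS ι hι hσ hs) (proj_mem ι σ s))
    · exact no_pair hS hι hmax hcardmax hσ hy0 (proj_mem ι σ s) (proj_mem ι σ⁻¹ s)
        (fun c => pair_mem hS ι hι hσ hs c)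
  obtain ⟨eK⟩ : Nonempty (Fin (Fintype.card K) ≃ K) := ⟨(Fintype.equivFin K).symm⟩
  letI : Field (Fin (Fintype.card K)) := eK.field
  refine ⟨Fin (Fintype.card K), inferInstance, inferInstance, ι.comp eK.ringEquiv.toRingHom, fun z => ?_⟩
  refine ⟨fun hz => ?_, ?_⟩
  · obtain ⟨k, hk⟩ := hall z hz
    exact ⟨eK.symm k, by rw [← hk]; exact congrArg ι (eK.apply_symm_apply k)⟩
  · rintro ⟨k, rfl⟩
    exact hι _

end Cfsg.Agent.Grp.SpreadField
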