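import Cfsg.Agent.Lib.Grp.SpreadField.Adjoin

/-!
# A pair of mutually inverse components has a small invariant subgroup
-/

set_option autoImplicit false

universe u

namespace Cfsg.Agent.Grp.SpreadField

variable {W : Type u} [AddCommGroup W] {K : Type u} [Field K] (ι : K →+* AddMonoid.End W)

/-- The lower terms in the powers of the sum of a pair. -/
def lower (y y' : AddMonoid.End W) (n : ℕ) : AddSubgroup (AddMonoid.End W) :=
  AddSubgroup.closure {z | ∃ k, ∃ j < n, z = ι k * y ^ j ∨ z = ι k * y' ^ j}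

theorem lower_left {σ : RingAut K} {y y' : AddMonoid.End W} (hy : y ∈ comp ι σ) {μ : K}
    (hμ : y * y' = ι μ) {n : ℕ} {z : AddMonoid.End W} (hz : z ∈ lower ι y y' n) :
    y * z ∈ lower ι y y' (n + 1) := by
  refine AddSubgroup.closure_induction (p := fun z _ => y * z ∈ lower ι y y' (n + 1)) ?_ ?_ ?_ ?_ hz
  · rintro z ⟨k, j, hj, rfl | rfl⟩
    · refine AddSubgroup.subset_closure ⟨σ k, j + 1, by omega, Or.inl ?_⟩
      rw [← mul_assoc, hy, mul_assoc, ← pow_succ']
    · cases j with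
      | zero =>
        refine AddSubgroup.subset_closure ⟨σ k, 1, by omega, Or.inl ?_⟩
        rw [pow_zero, mul_one, pow_one, hy]
      | succ j =>
        refine AddSubgroup.subset_closure ⟨σ k * μ, j, by omega, Or.inr ?_⟩
        rw [← mul_assoc, hy, mul_assoc, pow_succ', ← mul_assoc y, hμ, ← mul_assoc, ← map_mul]
  · simp
  · intro a b _ _ ha hb
    rw [mul_add]; exact add_mem ha hb
  · intro a _ ha
    rw [mul_neg]; exact neg_mem ha

theorem lower_comm (y y' : AddMonoid.End W) (n : ℕ) : lower ι y y' n = lower ι y' y n := by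
  unfold lower
  congr 1
  ext z
  exact exists_congr fun k => exists_congr fun j => and_congr_right fun _ => or_comm

theorem iterate_eq (z : AddMonoid.End W) (n : ℕ) (v : W) :
    (⇑(z : W →+ W))^[n] v = (z ^ n) v := by
  induction n generalizing v with
  | zero => rfl
  | succ n ih => rw [Function.iterate_succ_apply, ih, pow_succ]; rfl

/-- The data of a pair. -/
structure IsPair (σ : RingAut K) (y y' : AddMonoid.End W) (μ : K) : Prop where
  left : y ∈ comp ι σ
  right : y' ∈ comp ι σ⁻¹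
  mul_right' : y * y' = ι μ
  mul_left' : y' * y = ι (σ.symm μ)

namespace IsPair

variable {ι} {σ : RingAut K} {y y' : AddMonoid.End W} {μ : K} (h : IsPair ι σ y y' μ)
include h

theorem swap : IsPair ι σ⁻¹ y' y (σ.symm μ) := by
  refine ⟨h.right, by rw [inv_inv]; exact h.left, h.mul_left', ?_⟩
  rw [h.mul_right']
  exact congrArg ι (σ.apply_symm_apply μ).symm

theorem pow_sub_mem : ∀ n : ℕ, (y + y') ^ (n + 1) - (y ^ (n + 1) + y' ^ (n + 1)) ∈ lower ι y y' (n + 1)
  | 0 => by simp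
  | n + 1 => by
    obtain ⟨d, hd⟩ : ∃ d, d = (y + y') ^ (n + 1) - (y ^ (n + 1) + y' ^ (n + 1)) := ⟨_, rfl⟩
    have hdm : d ∈ lower ι y y' (n + 1) := hd ▸ pow_sub_mem n
    have e : (y + y') ^ (n + 2) - (y ^ (n + 2) + y' ^ (n + 2)) =
        y * d + y' * d + (ι μ * y' ^ n + ι (σ.symm μ) * y ^ n) := by
      have e1 : (y + y') ^ (n + 1) = y ^ (n + 1) + y' ^ (n + 1) + d := by rw [hd]; abel
      rw [pow_succ', e1, ← h.mul_right', ← h.mul_left', mul_assoc, mul_assoc, ← pow_succ', ← pow_succ',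
        add_mul, mul_add, mul_add, mul_add, mul_add, ← pow_succ', ← pow_succ']
      abel
    show (y + y') ^ (n + 2) - _ ∈ _
    rw [e]
    refine add_mem (add_mem (lower_left ι h.left h.mul_right' hdm) ?_) (add_mem ?_ ?_)
    · rw [lower_comm ι y y'] at hdm ⊢
      exact lower_left ι h.swap.left h.swap.mul_right' hdm
    · exact AddSubgroup.subset_closure ⟨μ, n, by omega, Or.inr rfl⟩
    · exact AddSubgroup.subset_closure ⟨σ.symm μ, n, by omega, Or.inl rfl⟩

theorem pow_eq_of_zero (hμ : μ = 0) : ∀ n : ℕ, (y + y') ^ (n + 1) = y ^ (n + 1) + y' ^ (n + 1)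
  | 0 => by simp
  | n + 1 => by
    have h1 := h.mul_right'
    have h2 := h.mul_left'
    rw [hμ, map_zero] at h1 h2
    rw [map_zero] at h2
    rw [pow_succ', pow_eq_of_zero hμ n, add_mul, mul_add, mul_add, pow_succ' y n, pow_succ' y' n,
      pow_succ' y (n + 1), pow_succ' y' (n + 1), pow_succ' y n, pow_succ' y' n, ← mul_assoc y y',
      ← mul_assoc y' y, h1, h2, zero_mul, zero_mul]
    abel

theorem pow_mul_pow : ∀ n : ℕ, ∃ κ, y' ^ n * y ^ n = ι κ ∧ (μ ≠ 0 → κ ≠ 0) ∧ (n ≠ 0 → μ = 0 → κ = 0)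
  | 0 => ⟨1, by simp, fun _ => one_ne_zero, fun h0 => absurd rfl h0⟩
  | n + 1 => by
    obtain ⟨κ, hκ, hκ0, -⟩ := pow_mul_pow n
    have e : y' ^ n * ι (σ.symm μ) = ι ((σ⁻¹ ^ n : RingAut K) (σ.symm μ)) * y' ^ n :=
      pow_comp ι h.right n _
    refine ⟨(σ⁻¹ ^ n : RingAut K) (σ.symm μ) * κ, ?_, fun hμ => ?_, fun _ hμ => ?_⟩
    · rw [pow_succ, pow_succ', mul_assoc, ← mul_assoc y' y, h.mul_left', ← mul_assoc, e, mul_assoc,
        hκ, ← map_mul]
    · exact mul_ne_zero (by simpa using hμ) (hκ0 hμ)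
    · simp [hμ]

variable [Fintype K] [Nontrivial W]

theorem proj_one_lower {n : ℕ} (hn : ∀ j, 0 < j → j < n → σ ^ j ≠ 1) {z : AddMonoid.End W}
    (hz : z ∈ lower ι y y' n) : ∃ k, proj ι 1 z = ι k := by
  classical
  refine AddSubgroup.closure_induction (p := fun z _ => ∃ k, proj ι 1 z = ι k) ?_ ?_ ?_ ?_ hz
  · rintro z ⟨k, j, hj, hz'⟩
    rcases Nat.eq_zero_or_pos j with rfl | hj0
    · refine ⟨k, ?_⟩
      have : z = ι k := by rcases hz' with rfl | rfl <;> simp
      rw [this, proj_of_comp ι (scalar_comp ι k), if_pos rfl]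
    · refine ⟨0, ?_⟩
      rw [map_zero]
      rcases hz' with rfl | rfl
      · rw [proj_of_comp ι (smul_comp ι k (pow_comp ι h.left j)), if_neg (hn j hj0 hj)]
      · rw [proj_of_comp ι (smul_comp ι k (pow_comp ι h.right j)), if_neg (by
          rw [inv_pow, inv_eq_one]; exact hn j hj0 hj)]
  · exact ⟨0, by simp⟩
  · rintro a b _ _ ⟨k, hk⟩ ⟨k', hk'⟩
    exact ⟨k + k', by rw [map_add, hk, hk', map_add]⟩
  · rintro a _ ⟨k, hk⟩
    exact ⟨-k, by rw [map_neg, hk, map_neg]⟩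

/-- Invariance under the second operator follows from bijectivity of the first. -/
theorem stable_of_surj {M : AddSubgroup W} (hMK : ∀ k, ∀ v ∈ M, ι k v ∈ M)
    (hsurj : ∀ v ∈ M, ∃ w ∈ M, y w = v) : ∀ v ∈ M, y' v ∈ M := fun v hv => by
  obtain ⟨w, hw, rfl⟩ := hsurj v hv
  have e : y' (y w) = ι (σ.symm μ) w := DFunLike.congr_fun h.mul_left' w
  rw [e]
  exact hMK _ w hw

/-- An invariant line from a power of `y` that is a fixed scalar somewhere. -/
theorem exists_line {v₀ : W} (hv₀ : v₀ ≠ 0) {r : K} (hr : r ≠ 0) (hrf : σ r = r)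
    (hyr : (y ^ orderOf σ) v₀ = ι r v₀) :
    ∃ M : AddSubgroup W, M ≠ ⊥ ∧ (∀ k, ∀ v ∈ M, ι k v ∈ M) ∧ (∀ v ∈ M, y v ∈ M) ∧
      (∀ v ∈ M, y' v ∈ M) ∧ Nat.card M ≤ Fintype.card K := by
  letI : Module K W := Module.compHom W ι
  have hsm : ∀ (k : K) (v : W), k • v = ι k v := fun _ _ => rfl
  obtain ⟨v, c, hv, hc, hyv⟩ := exists_eigen σ y (fun k v => by
      rw [hsm, hsm]; exact DFunLike.congr_fun (h.left k) v) hv₀ hr hrf
    ((iterate_eq y (orderOf σ) v₀).trans hyr)
  rw [hsm] at hyv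
  let φ : K →+ W :=
    { toFun := fun k => ι k v
      map_zero' := by simp
      map_add' := fun a b => by rw [map_add]; rfl }
  have hmem : ∀ k, ι k v ∈ φ.range := fun k => ⟨k, rfl⟩
  have hy1 : ∀ k, y (ι k v) = ι (σ k * c) v := fun k => by
    have e : y (ι k v) = ι (σ k) (y v) := DFunLike.congr_fun (h.left k) v
    have hyv' : y v = ι c v := hyv
    rw [e, hyv', map_mul]; rfl
  have hMK : ∀ k, ∀ w ∈ φ.range, ι k w ∈ φ.range := by
    rintro k _ ⟨a, rfl⟩
    refine ⟨k * a, ?_⟩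
    show ι (k * a) v = ι k (ι a v)
    rw [map_mul]; rfl
  refine ⟨φ.range, fun e => hv ?_, hMK, ?_, h.stable_of_surj hMK ?_, ?_⟩
  · have := hmem 1
    rw [e, AddSubgroup.mem_bot, map_one] at this
    exact this
  · rintro _ ⟨a, rfl⟩
    exact ⟨σ a * c, (hy1 a).symm⟩
  · rintro _ ⟨a, rfl⟩
    refine ⟨_, hmem (σ.symm (a * c⁻¹)), ?_⟩
    rw [hy1, RingEquiv.apply_symm_apply, inv_mul_cancel_right₀ hc]
    rfl
  · rw [← Nat.card_eq_fintype_card]
    exact Nat.card_le_card_of_surjective φ.rangeRestrict φ.rangeRestrict_surjective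

variable [Finite W] {S : AddSubgroup (AddMonoid.End W)} (hS : IsSpread S) (hι : ∀ k, ι k ∈ S)
  (hyS : y + y' ∈ S) (hmax : ∀ c ∈ S, c ∈ comp ι 1 → ∃ k, c = ι k) (hσ : σ * σ ≠ 1) (hy0 : y ≠ 0)
include hS hι hyS hmax hσ hy0

/-- The main construction. -/
theorem exists_small :
    ∃ M : AddSubgroup W, M ≠ ⊥ ∧ (∀ k, ∀ v ∈ M, ι k v ∈ M) ∧ (∀ v ∈ M, y v ∈ M) ∧
      (∀ v ∈ M, y' v ∈ M) ∧ Nat.card M ≤ Fintype.card K ^ 2 := by
  classical
  haveI := nontrivial_end (W := W)
  have hK1 : Fintype.card K ≤ Fintype.card K ^ 2 := Nat.le_self_pow two_ne_zero _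
  obtain ⟨m, hm⟩ : ∃ m, orderOf σ = m + 1 := ⟨orderOf σ - 1, by have := orderOf_ringAut_pos σ; omega⟩
  have hσm : σ ^ (m + 1) = 1 := hm ▸ pow_orderOf_eq_one σ
  have hν1 : y ^ (m + 1) ∈ comp ι 1 := hσm ▸ pow_comp ι h.left (m + 1)
  have hν1' : y' ^ (m + 1) ∈ comp ι 1 := by
    simpa [inv_pow, hσm] using pow_comp ι h.right (m + 1)
  have hσ1 : σ ≠ 1 := fun e => hσ (by rw [e, one_mul])
  have hσne : σ ≠ σ⁻¹ := fun e => hσ (mul_eq_one_iff_eq_inv.mpr e)
  have hx0 : y + y' ≠ 0 := fun e => hy0 (by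
    have h1 := congrArg (proj ι σ) e
    rwa [map_add, map_zero, proj_of_comp ι h.left, if_pos rfl, proj_of_comp ι h.right,
      if_neg fun e => hσne e.symm, add_zero] at h1)
  by_cases hμ : μ = 0
  · obtain ⟨ρ, hρ⟩ : ∃ ρ, y ^ (m + 1) + y' ^ (m + 1) = ι ρ := by
      rw [← h.pow_eq_of_zero hμ m]
      exact hmax _ (pow_mem hS hyS _) (by rw [h.pow_eq_of_zero hμ m]; exact add_mem hν1 hν1')
    have hρ0 : ρ ≠ 0 := fun e => by
      rw [e, map_zero, ← h.pow_eq_of_zero hμ m] at hρ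
      exact hx0 (eq_zero_of_pow hS hyS (m + 1) hρ)
    have key : ∀ (τ : RingAut K) (z z' : AddMonoid.End W) (μ' : K) (_ : IsPair ι τ z z' μ'),
        μ' = 0 → orderOf τ = m + 1 → z ^ (m + 1) + z' ^ (m + 1) = ι ρ → z ^ (m + 1) ≠ 0 →
        ∃ M : AddSubgroup W, M ≠ ⊥ ∧ (∀ k, ∀ v ∈ M, ι k v ∈ M) ∧ (∀ v ∈ M, z v ∈ M) ∧
          (∀ v ∈ M, z' v ∈ M) ∧ Nat.card M ≤ Fintype.card K := by
      intro τ z z' μ' hp hμ' hord hz hz0
      have h1 := hp.mul_right'
      have h2 := hp.mul_left'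
      rw [hμ', map_zero] at h1 h2
      rw [map_zero] at h2
      have e3 : z' ^ (m + 1) * z ^ (m + 1) = 0 := by
        rw [pow_succ, pow_succ', mul_assoc, ← mul_assoc z' z, h2, zero_mul, mul_zero]
      obtain ⟨w, hw⟩ : ∃ w, (z ^ (m + 1)) w ≠ 0 := by
        by_contra! hc
        exact hz0 (AddMonoidHom.ext hc)
      have hτρ : τ ρ = ρ := by
        have e1 : z * ι ρ = ι ρ * z := by
          rw [← hz, mul_add, add_mul, ← pow_succ', ← pow_succ, pow_succ' z', ← mul_assoc z z', h1,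
            ← pow_succ' z', pow_succ z' m, mul_assoc (z' ^ m), h2, zero_mul, mul_zero]
        rw [hp.left, ← sub_eq_zero, ← sub_mul, ← map_sub] at e1
        rcases scalar_mul_eq_zero ι e1 with h0 | h0
        · exact sub_eq_zero.mp h0
        · exact absurd (by rw [h0, zero_pow (Nat.succ_ne_zero m)]) hz0
      refine hp.exists_line hw hρ0 hτρ ?_
      rw [hord]
      have e4 : z ^ (m + 1) * z ^ (m + 1) = ι ρ * z ^ (m + 1) := by
        rw [← hz, add_mul, e3, add_zero]
      exact DFunLike.congr_fun e4 w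
    by_cases hy : y ^ (m + 1) = 0
    · obtain ⟨M, h1, h2, h3, h4, h5⟩ := key σ⁻¹ y' y _ h.swap (by simp [hμ])
        (by rw [orderOf_inv, hm]) (by rw [add_comm]; exact hρ)
        (fun e => hρ0 (by
          rw [hy, e, add_zero] at hρ
          exact (scalar_mul_eq_zero ι (z := 1) (by rw [mul_one, ← hρ])).resolve_right one_ne_zero))
      exact ⟨M, h1, h2, h4, h3, h5.trans hK1⟩
    · obtain ⟨M, h1, h2, h3, h4, h5⟩ := key σ y y' μ h hμ hm hρ hy
      exact ⟨M, h1, h2, h3, h4, h5.trans hK1⟩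
  -- the invertible case
  have hyinj : ∀ v, y v = 0 → v = 0 := fun v hv => by
    have e : ι (σ.symm μ) v = 0 := by rw [← h.mul_left']; show y' (y v) = 0; rw [hv, map_zero]
    exact hS.inj _ (hι _) (fun e0 => hμ (by
      have := (scalar_mul_eq_zero ι (z := 1) (by rw [mul_one]; exact e0)).resolve_right one_ne_zero
      simpa using this)) v e
  have hsurj : ∀ {M : AddSubgroup W}, (∀ v ∈ M, y v ∈ M) → ∀ v ∈ M, ∃ w ∈ M, y w = v := by
    intro M hM v hv
    obtain ⟨w, hw⟩ := Finite.surjective_of_injective (f := fun a : M => (⟨y a, hM a a.2⟩ : M))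
      (fun a b hab => Subtype.ext (sub_eq_zero.mp (hyinj _ (by
        rw [map_sub, sub_eq_zero]; exact congrArg Subtype.val hab)))) ⟨v, hv⟩
    exact ⟨w, w.2, congrArg Subtype.val hw⟩
  obtain ⟨κ, hκ, hκ0, -⟩ := h.pow_mul_pow (m + 1)
  have hκ0 : κ ≠ 0 := hκ0 hμ
  obtain ⟨ρ, hρ⟩ : ∃ ρ, y ^ (m + 1) + y' ^ (m + 1) = ι ρ := by
    have hz := h.pow_sub_mem m
    obtain ⟨k, hk⟩ := h.proj_one_lower (fun j hj hjm =>
      pow_ne_one_of_lt_orderOf hj.ne' (by omega)) hz
    obtain ⟨k', hk'⟩ := hmax _ (proj_mem_of_sq hS ι hι (σ := 1) (one_mul 1) (pow_mem hS hyS (m + 1)))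
      (proj_mem ι 1 _)
    rw [map_sub, hk', map_add, proj_of_comp ι hν1, if_pos rfl, proj_of_comp ι hν1', if_pos rfl] at hk
    exact ⟨k' - k, by rw [map_sub, ← hk]; abel⟩
  obtain ⟨ν, hν⟩ : ∃ ν, ν = y ^ (m + 1) := ⟨_, rfl⟩
  have hνK : ∀ k, ν * ι k = ι k * ν := hν ▸ hν1
  have hνy : y * ν = ν * y := by rw [hν, ← pow_succ', ← pow_succ]
  have hνsq : ν * ν = ι ρ * ν - ι κ := by
    rw [← hκ, ← hρ, hν, add_mul]; abel
  have hν0 : ν ≠ 0 := fun e => hκ0 (by
    rw [hν] at e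
    rw [e, mul_zero, eq_comm, ← mul_one (ι κ)] at hκ
    exact (scalar_mul_eq_zero ι hκ).resolve_right one_ne_zero)
  obtain ⟨v₀, hv₀⟩ := exists_ne (0 : W)
  have hcase1 : ∀ r, σ r = r → r ≠ 0 → (∃ v, v ≠ 0 ∧ ν v = ι r v) →
      ∃ M : AddSubgroup W, M ≠ ⊥ ∧ (∀ k, ∀ v ∈ M, ι k v ∈ M) ∧ (∀ v ∈ M, y v ∈ M) ∧
        (∀ v ∈ M, y' v ∈ M) ∧ Nat.card M ≤ Fintype.card K ^ 2 := by
    rintro r hr hr0 ⟨v, hv, hνv⟩
    obtain ⟨M, h1, h2, h3, h4, h5⟩ := h.exists_line hv hr0 hr (by rw [hm, ← hν, hνv])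
    exact ⟨M, h1, h2, h3, h4, h5.trans hK1⟩
  have hlin : ι (σ ρ - ρ) * ν = ι (σ κ - κ) := by
    have e1 : y * (ν * ν) = ν * ν * y := by rw [← mul_assoc, hνy, mul_assoc, hνy, ← mul_assoc]
    rw [hνsq, mul_sub, sub_mul, ← mul_assoc, h.left, mul_assoc, hνy, h.left, ← mul_assoc, ← sub_mul,
      ← sub_mul, ← sub_eq_zero, ← sub_mul] at e1
    have e2 : ι (σ ρ) * ν - ι (σ κ) - (ι ρ * ν - ι κ) = 0 := AddMonoidHom.ext fun v => by
      obtain ⟨w, -, rfl⟩ := hsurj (M := ⊤) (fun _ _ => trivial) v trivial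
      exact DFunLike.congr_fun e1 w
    rw [← sub_eq_zero, ← e2, map_sub, map_sub, sub_mul]
    abel
  have hfixcase : ∀ r, ι r = ν → ∃ M : AddSubgroup W, M ≠ ⊥ ∧ (∀ k, ∀ v ∈ M, ι k v ∈ M) ∧
      (∀ v ∈ M, y v ∈ M) ∧ (∀ v ∈ M, y' v ∈ M) ∧ Nat.card M ≤ Fintype.card K ^ 2 := by
    intro r hr
    refine hcase1 r ?_ (fun e => hν0 (by rw [← hr, e, map_zero])) ⟨v₀, hv₀, by rw [hr]⟩
    have e1 := hνy
    rw [← hr, h.left, ← sub_eq_zero, ← sub_mul, ← map_sub] at e1
    exact sub_eq_zero.mp ((scalar_mul_eq_zero ι e1).resolve_right hy0)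
  by_cases hσρ : σ ρ = ρ
  swap
  · refine hfixcase ((σ ρ - ρ)⁻¹ * (σ κ - κ)) ?_
    rw [map_mul, ← hlin, ← mul_assoc, ← map_mul, inv_mul_cancel₀ (sub_ne_zero.mpr hσρ), map_one, one_mul]
  have hσκ : σ κ = κ := by
    rw [hσρ, sub_self, map_zero, zero_mul, eq_comm, ← mul_one (ι (σ κ - κ))] at hlin
    exact sub_eq_zero.mp ((scalar_mul_eq_zero ι hlin).resolve_right one_ne_zero)
  by_cases hroot : ∃ r, r * r - ρ * r + κ = 0
  · obtain ⟨r, hr⟩ := hroot
    have hprod : (ν - ι r) * (ν - ι (ρ - r)) = 0 := by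
      rw [sub_mul, mul_sub, mul_sub, hνsq, hνK, ← map_mul,
        show κ = r * (ρ - r) by linear_combination hr, map_sub, sub_mul]
      abel
    have hr0 : r ≠ 0 := fun e => hκ0 (by rw [e] at hr; linear_combination hr)
    by_cases hex : ∃ v, v ≠ 0 ∧ ν v = ι r v
    swap
    · refine hfixcase (ρ - r) (sub_eq_zero.mp (AddMonoidHom.ext fun w => ?_)).symm
      push Not at hex
      have e := DFunLike.congr_fun hprod w
      change ν ((ν - ι (ρ - r)) w) - ι r ((ν - ι (ρ - r)) w) = 0 at e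
      by_contra hne
      exact hex _ hne (sub_eq_zero.mp e)
    obtain ⟨v, hv, hνv⟩ := hex
    by_cases hσr : σ r = r
    · exact hcase1 r hσr hr0 ⟨v, hv, hνv⟩
    have hσr' : σ r = ρ - r := by
      have e : σ r * σ r - ρ * σ r + κ = 0 := by
        have := congrArg σ hr
        rwa [map_add, map_sub, map_mul, map_mul, hσρ, hσκ, map_zero] at this
      have e2 : (σ r - r) * (σ r - (ρ - r)) = 0 := by linear_combination e - hr
      exact sub_eq_zero.mp ((mul_eq_zero.mp e2).resolve_left (sub_ne_zero.mpr hσr))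
    have hσσr : (σ * σ) r = r := by
      show σ (σ r) = r
      rw [hσr', map_sub, hσρ, hσr']; ring
    have hpar : ∀ i : ℕ, (σ ^ i : RingAut K) r = if Even i then r else σ r := by
      intro i
      induction i with
      | zero => simp
      | succ i ih =>
        rw [pow_succ']
        show σ ((σ ^ i : RingAut K) r) = _
        rw [ih]
        by_cases hi : Even i
        · rw [if_pos hi, if_neg (by simp [Nat.even_add_one, hi])]
        · rw [if_neg hi, if_pos (by simp [Nat.even_add_one, hi])]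
          exact hσσr
    obtain ⟨n, hn⟩ : Even (m + 1) := by
      by_contra hodd
      have := hpar (m + 1)
      rw [hσm, if_neg hodd] at this
      exact hσr this.symm
    have hord : orderOf (σ * σ) = n := by
      rw [← pow_two, orderOf_pow' σ two_ne_zero, hm, hn,
        Nat.gcd_eq_right (by omega), ← two_mul, Nat.mul_div_cancel_left _ two_pos]
    letI : Module K W := Module.compHom W ι
    have hsm : ∀ (k : K) (v : W), k • v = ι k v := fun _ _ => rfl
    obtain ⟨w, c, hw, hc, hyw⟩ := exists_eigen (σ * σ) (y * y : AddMonoid.End W) (fun k v => by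
        rw [hsm, hsm]; exact DFunLike.congr_fun (mul_comp ι h.left h.left k) v) hv hr0 hσσr
      (by
        rw [hord]
        refine (iterate_eq (y * y) n v).trans ?_
        rw [hsm, ← hνv, hν, ← pow_two, ← pow_mul, hn, two_mul])
    rw [hsm] at hyw
    let φ : K × K →+ W :=
      { toFun := fun p => ι p.1 w + ι p.2 (y w)
        map_zero' := by simp
        map_add' := fun a b => by
          rw [Prod.fst_add, Prod.snd_add, map_add, map_add]
          show ι a.1 w + ι b.1 w + (ι a.2 (y w) + ι b.2 (y w)) = _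
          abel }
    have hMK : ∀ k, ∀ x ∈ φ.range, ι k x ∈ φ.range := by
      rintro k _ ⟨p, rfl⟩
      refine ⟨(k * p.1, k * p.2), ?_⟩
      show ι (k * p.1) w + ι (k * p.2) (y w) = ι k (ι p.1 w + ι p.2 (y w))
      rw [map_mul, map_mul, map_add]; rfl
    have hMy : ∀ x ∈ φ.range, y x ∈ φ.range := by
      rintro _ ⟨p, rfl⟩
      refine ⟨(σ p.2 * c, σ p.1), ?_⟩
      show ι (σ p.2 * c) w + ι (σ p.1) (y w) = y (ι p.1 w + ι p.2 (y w))
      have e1 : ∀ k u, y (ι k u) = ι (σ k) (y u) := fun k u => DFunLike.congr_fun (h.left k) u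
      have e2 : y (y w) = ι c w := hyw
      rw [map_add y, e1, e1, e2, map_mul, add_comm]
      rfl
    refine ⟨φ.range, fun e => hw ?_, hMK, hMy, h.stable_of_surj hMK (hsurj hMy), ?_⟩
    · have hmem : w ∈ φ.range := ⟨(1, 0), by show ι 1 w + ι 0 (y w) = w; simp⟩
      rwa [e, AddSubgroup.mem_bot] at hmem
    · refine (Nat.card_le_card_of_surjective φ.rangeRestrict φ.rangeRestrict_surjective).trans ?_
      rw [Nat.card_prod, Nat.card_eq_fintype_card, pow_two]
  -- the quadratic extension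
  push Not at hroot
  let F : Subring (AddMonoid.End W) :=
    { carrier := {z | ∃ a b, z = ι a + ι b * ν}
      mul_mem' := by
        rintro _ _ ⟨a, b, rfl⟩ ⟨a', b', rfl⟩
        refine ⟨a * a' - b * b' * κ, a * b' + b * a' + b * b' * ρ, ?_⟩
        rw [mul_add, add_mul, add_mul, mul_assoc (ι b) ν (ι a'), hνK, mul_assoc (ι b) ν (ι b' * ν),
          ← mul_assoc ν, hνK, mul_assoc (ι b') ν ν, hνsq]
        simp only [map_add, map_sub, map_mul, mul_sub, add_mul, mul_assoc]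
        abel
      one_mem' := ⟨1, 0, by simp⟩
      add_mem' := by
        rintro _ _ ⟨a, b, rfl⟩ ⟨a', b', rfl⟩
        exact ⟨a + a', b + b', by rw [map_add, map_add, add_mul]; abel⟩
      zero_mem' := ⟨0, 0, by simp⟩
      neg_mem' := by
        rintro _ ⟨a, b, rfl⟩
        exact ⟨-a, -b, by rw [map_neg, map_neg, neg_mul]; abel⟩ }
  have hFinj : ∀ z ∈ F, z ≠ 0 → ∀ v, z v = 0 → v = 0 := by
    rintro _ ⟨a, b, rfl⟩ hz v hv
    by_cases hb : b = 0
    · subst hb
      rw [map_zero, zero_mul, add_zero] at hz hv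
      exact hS.inj _ (hι a) hz v hv
    change ι a v + ι b (ν v) = 0 at hv
    have e1 : ν v = ι (-(b⁻¹ * a)) v := by
      have e2 := congrArg (ι b⁻¹) hv
      rw [map_add, map_zero] at e2
      have e3 : ι b⁻¹ (ι b (ν v)) = ν v := by
        show (ι b⁻¹ * ι b) (ν v) = ν v
        rw [← map_mul, inv_mul_cancel₀ hb, map_one]; rfl
      rw [e3] at e2
      rw [map_neg, map_mul]
      exact eq_neg_of_add_eq_zero_right e2
    obtain ⟨r, hr⟩ : ∃ r, r = -(b⁻¹ * a) := ⟨_, rfl⟩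
    rw [← hr] at e1
    have e4 : ι (r * r - ρ * r + κ) v = 0 := by
      have e5 : (ν * ν) v = ι (r * r) v := by
        show ν (ν v) = _
        rw [e1]
        have := DFunLike.congr_fun (hνK r) v
        change ν (ι r v) = ι r (ν v) at this
        rw [this, e1, map_mul]; rfl
      rw [hνsq] at e5
      change ι ρ (ν v) - ι κ v = ι (r * r) v at e5
      rw [e1] at e5
      rw [map_add, map_sub, map_mul ι ρ r]
      show ι (r * r) v - ι ρ (ι r v) + ι κ v = 0
      rw [← e5]; abel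
    exact hS.inj _ (hι _) (fun e0 => hroot r (by
      exact (scalar_mul_eq_zero ι (z := 1) (by rw [mul_one]; exact e0)).resolve_right one_ne_zero)) v e4
  have hFc : ∀ a ∈ F, ∀ b ∈ F, a * b = b * a := by
    rintro _ ⟨a, b, rfl⟩ _ ⟨a', b', rfl⟩
    have hc1 : ∀ k, Commute ν (ι k) := hνK
    have hc2 : ∀ k k', Commute (ι k) (ι k') := fun k k' => by
      show _ * _ = _ * _; rw [← map_mul, ← map_mul, mul_comm]
    exact (((hc2 a a').add_right ((hc2 a b').mul_right (hc1 a).symm)).add_left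
      (((hc2 b a').mul_left (hc1 a')).add_right
        (((hc2 b b').mul_left (hc1 b')).mul_right ((hc1 b).symm.mul_left (Commute.refl ν))))).eq
  letI : CommRing F := { (inferInstance : Ring F) with mul_comm := fun a b => Subtype.ext (hFc _ a.2 _ b.2) }
  haveI : Nontrivial F := ⟨⟨1, 0, fun h => one_ne_zero (congrArg Subtype.val h)⟩⟩
  haveI : NoZeroDivisors F := ⟨fun {a b} h => by
    by_cases ha : (a : AddMonoid.End W) = 0
    · exact Or.inl (Subtype.ext ha)
    · exact Or.inr (Subtype.ext (AddMonoidHom.ext fun v =>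
        hFinj _ a.2 ha _ (DFunLike.congr_fun (congrArg Subtype.val h) v)))⟩
  haveI : IsDomain F := NoZeroDivisors.to_isDomain _
  haveI : Finite (AddMonoid.End W) := finite_end
  letI := Fintype.ofFinite F
  letI : Field F := Fintype.fieldOfDomain F
  have hex : ∀ l : F, ∃ l' : F, (l' : AddMonoid.End W) * y = y * (l : AddMonoid.End W) := by
    rintro ⟨_, a, b, rfl⟩
    refine ⟨⟨_, σ a, σ b, rfl⟩, ?_⟩
    rw [add_mul, mul_add, ← h.left, mul_assoc, ← hνy, ← mul_assoc, ← h.left, mul_assoc]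
  choose f hf using hex
  have huniq : ∀ l l' : F, (l' : AddMonoid.End W) * y = y * (l : AddMonoid.End W) → f l = l' :=
    fun l l' hl => Subtype.ext (sub_eq_zero.mp (AddMonoidHom.ext fun v => by
      obtain ⟨w, -, rfl⟩ := hsurj (M := ⊤) (fun _ _ => trivial) v trivial
      show (f l : AddMonoid.End W) (y w) - (l' : AddMonoid.End W) (y w) = 0
      rw [sub_eq_zero]
      exact DFunLike.congr_fun ((hf l).trans hl.symm) w))
  let fh : F →+* F :=
    { toFun := f
      map_one' := huniq _ _ (by simp)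
      map_mul' := fun a b => huniq _ _ (by
        rw [Subring.coe_mul, mul_assoc, hf, ← mul_assoc, hf, Subring.coe_mul, mul_assoc])
      map_zero' := huniq _ _ (by simp)
      map_add' := fun a b => huniq _ _ (by
        rw [Subring.coe_add, add_mul, hf, hf, Subring.coe_add, mul_add]) }
  obtain ⟨τ, hτ⟩ : ∃ τ : RingAut F, ∀ l, τ l = f l :=
    ⟨RingEquiv.ofBijective fh (Finite.injective_iff_bijective.mp fh.injective), fun l => rfl⟩
  have hτi : ∀ (i : ℕ) (l : F),
      ((τ ^ i : RingAut F) l : AddMonoid.End W) * y ^ i = y ^ i * (l : AddMonoid.End W) := by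
    intro i
    induction i with
    | zero => intro l; simp
    | succ i ih =>
      intro l
      rw [pow_succ', pow_succ']
      show (τ ((τ ^ i : RingAut F) l) : AddMonoid.End W) * (y * y ^ i) = _
      rw [hτ, ← mul_assoc, hf, mul_assoc, ih, mul_assoc]
  let lν : F := ⟨ν, 0, 1, by simp⟩
  have hτord : orderOf τ = m + 1 := by
    refine (orderOf_eq_iff (Nat.succ_pos m)).mpr ⟨RingEquiv.ext fun l => Subtype.ext ?_, ?_⟩
    · have e := hτi (m + 1) l
      rw [← hν] at e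
      have e2 : ((τ ^ (m + 1) : RingAut F) l - l : F) * lν = 0 := Subtype.ext (by
        show (((τ ^ (m + 1) : RingAut F) l : AddMonoid.End W) - l) * ν = 0
        rw [sub_mul, e, sub_eq_zero]
        exact hFc ν lν.2 _ l.2)
      exact congrArg Subtype.val (sub_eq_zero.mp ((mul_eq_zero.mp e2).resolve_right
        fun e3 => hν0 (congrArg Subtype.val e3)))
    · intro i hi hi0 hone
      refine pow_ne_one_of_lt_orderOf hi0.ne' (by omega : i < orderOf σ) (RingEquiv.ext fun k => ?_)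
      have hk : ι k ∈ F := ⟨k, 0, by simp⟩
      have e := hτi i ⟨ι k, hk⟩
      rw [hone] at e
      change ι k * y ^ i = y ^ i * ι k at e
      rw [pow_comp ι h.left i k, ← sub_eq_zero, ← sub_mul, ← map_sub] at e
      refine (sub_eq_zero.mp ((scalar_mul_eq_zero ι e).resolve_right fun e0 => ?_)).symm
      exact hν0 (by rw [hν, show m + 1 = i + (m + 1 - i) by omega, pow_add, e0, zero_mul])
  have hτν : τ lν = lν := by
    rw [hτ]
    exact huniq _ _ hνy.symm
  letI : Module F W := Module.compHom W F.subtype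
  have hsm : ∀ (l : F) (v : W), l • v = (l : AddMonoid.End W) v := fun _ _ => rfl
  obtain ⟨w, c, hw, hc, hyw⟩ := exists_eigen τ y (fun l v => by
      rw [hsm, hsm, hτ]; exact DFunLike.congr_fun (hf l).symm v) hv₀
    (r := lν) (fun e => hν0 (congrArg Subtype.val e)) hτν
    (by
      rw [hτord]
      refine (iterate_eq y (m + 1) v₀).trans ?_
      rw [← hν, hsm])
  rw [hsm] at hyw
  let φ : F →+ W :=
    { toFun := fun l => (l : AddMonoid.End W) w
      map_zero' := rfl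
      map_add' := fun a b => rfl }
  have hMK : ∀ k, ∀ x ∈ φ.range, ι k x ∈ φ.range := by
    rintro k _ ⟨l, rfl⟩
    exact ⟨⟨ι k, k, 0, by simp⟩ * l, rfl⟩
  have hMy : ∀ x ∈ φ.range, y x ∈ φ.range := by
    rintro _ ⟨l, rfl⟩
    refine ⟨f l * c, ?_⟩
    show (f l : AddMonoid.End W) ((c : AddMonoid.End W) w) = y ((l : AddMonoid.End W) w)
    rw [← hyw]
    exact DFunLike.congr_fun (hf l) w
  refine ⟨φ.range, fun e => hw ?_, hMK, hMy, h.stable_of_surj hMK (hsurj hMy), ?_⟩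
  · have hmem : w ∈ φ.range := ⟨1, rfl⟩
    rwa [e, AddSubgroup.mem_bot] at hmem
  · refine (Nat.card_le_card_of_surjective φ.rangeRestrict φ.rangeRestrict_surjective).trans ?_
    refine (Nat.card_le_card_of_surjective
      (fun p : K × K => (⟨ι p.1 + ι p.2 * ν, p.1, p.2, rfl⟩ : F)) ?_).trans ?_
    · rintro ⟨_, a, b, rfl⟩
      exact ⟨(a, b), rfl⟩
    · rw [Nat.card_prod, Nat.card_eq_fintype_card, pow_two]

end IsPair

end Cfsg.Agent.Grp.SpreadField
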